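import Cfsg.Agent.H782.Weyl.Two

/-!
# Self-duality (helper782)

`dual_equiv` : in the situation of `Wey x n₀`, every irreducible module of dimension at most `p - 1` on which `x` is a
single Jordan block is self-dual.
-/

set_option autoImplicit false

namespace Cfsg.Agent.H782.Weyl

open Module

section gen

variable {p : ℕ} [hp : Fact p.Prime] {G : Type*} [Group G] {C : Type*} [AddCommGroup C]
  [Module (ZMod p) C] (σ : Representation (ZMod p) G C) {x : G} {m : ℕ} [FiniteDimensional (ZMod p) C]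

theorem nil_of (hx : x ^ p = 1) (hC : finrank (ZMod p) C = m) (hm : 0 < m) : (σ x - 1) ^ m = 0 := by
  have h1 : (σ x - 1) ^ p = 0 := by
    have h2 : CharP (End (ZMod p) C) p := by
      have hnt : Nontrivial C := by
        apply nontrivial_of_finrank_pos (R := ZMod p)
        rw [hC]
        exact hm
      exact charP_of_injective_algebraMap (FaithfulSMul.algebraMap_injective (ZMod p) (End (ZMod p) C)) p
    rw [sub_pow_char_of_commute p (Commute.one_right _), one_pow, ← map_pow, hx, map_one, sub_self]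
  have h2 := Module.End.ker_pow_le_ker_pow_finrank (σ x - 1) p
  rw [h1, hC] at h2
  refine LinearMap.ext fun v => ?_
  have h3 : v ∈ LinearMap.ker (0 : End (ZMod p) C) := by rw [LinearMap.mem_ker, LinearMap.zero_apply]
  exact LinearMap.mem_ker.1 (h2 h3)

omit [FiniteDimensional (ZMod p) C] in
theorem range_top {δ : End (ZMod p) C} (hC : finrank (ZMod p) C = m) (hm : 0 < m) (h0 : δ ^ m = 0) {w : C}
    (hw : (δ ^ (m - 1)) w ≠ 0) (y : C) : ∃ a : ZMod p, (δ ^ (m - 1)) y = a • (δ ^ (m - 1)) w := by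
  have hne : Nonempty (Fin m) := ⟨⟨0, hm⟩⟩
  let b := basisOfLinearIndependentOfCardEqFinrank
    (linearIndependent_pow δ w m (by rw [h0, LinearMap.zero_apply]) hw) (by rw [Fintype.card_fin, hC])
  have hb : ∀ i, b i = (δ ^ (i : ℕ)) w := fun i => by
    rw [coe_basisOfLinearIndependentOfCardEqFinrank]
  refine ⟨b.repr y ⟨0, hm⟩, ?_⟩
  conv_lhs => rw [← b.sum_repr y]
  rw [map_sum, Finset.sum_eq_single ⟨0, hm⟩]
  · rw [map_smul, hb]
    change b.repr y ⟨0, hm⟩ • (δ ^ (m - 1)) ((δ ^ 0) w) = _
    rw [pow_zero, Module.End.one_apply]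
  · intro j _ hj
    have hj0 : (j : ℕ) ≠ 0 := fun h => hj (Fin.ext h)
    rw [map_smul, hb, ← Module.End.mul_apply, ← pow_add, show m - 1 + (j : ℕ) = (j : ℕ) - 1 + m by omega, pow_add, h0,
      mul_zero, LinearMap.zero_apply, smul_zero]
  · intro h
    exact absurd (Finset.mem_univ _) h

omit [FiniteDimensional (ZMod p) C] in
theorem norm_range {g : G} (hg : g ∈ Subgroup.normalizer (Subgroup.zpowers x : Set G)) (hx : orderOf x = p) (k : ℕ)
    (w : C) : ∃ y, σ g (((σ x - 1) ^ k) w) = ((σ x - 1) ^ k) y := by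
  obtain ⟨a, ha⟩ := exists_unit (p := p) hx hg
  set j := (a : ZMod p).val with hj
  have h1 : SemiconjBy (σ g) (σ x - 1) (σ x ^ j - 1) := by
    change σ g * (σ x - 1) = (σ x ^ j - 1) * σ g
    rw [mul_sub, sub_mul, mul_one, one_mul, ← map_pow, ← ha, ← map_mul, ← map_mul, inv_mul_cancel_right]
  have h2 := h1.pow_right k
  have h3 : (σ x - 1) * (∑ i ∈ Finset.range j, σ x ^ i) = σ x ^ j - 1 := mul_geom_sum _ _
  have h4 : Commute (σ x - 1) (∑ i ∈ Finset.range j, σ x ^ i) := by
    refine Commute.sum_right _ _ _ fun i _ => ?_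
    exact (Commute.pow_right (Commute.sub_left (Commute.refl _) (Commute.one_left _)) _)
  rw [← h3, h4.mul_pow] at h2
  refine ⟨((∑ i ∈ Finset.range j, σ x ^ i) ^ k) (σ g w), ?_⟩
  have h5 := LinearMap.congr_fun h2 w
  rw [Module.End.mul_apply, Module.End.mul_apply, Module.End.mul_apply] at h5
  exact h5

/-- the bottom weight -/
theorem norm_line {g : G} (hg : g ∈ Subgroup.normalizer (Subgroup.zpowers x : Set G)) (hx : orderOf x = p)
    (hC : finrank (ZMod p) C = m) (hm : 0 < m) {w : C} (hw : ((σ x - 1) ^ (m - 1)) w ≠ 0) :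
    ∃ a : ZMod p, σ g (((σ x - 1) ^ (m - 1)) w) = a • ((σ x - 1) ^ (m - 1)) w := by
  obtain ⟨y, hy⟩ := norm_range σ hg hx (m - 1) w
  rw [hy]
  exact range_top hC hm (nil_of σ (by rw [← hx, pow_orderOf_eq_one]) hC hm) hw y

theorem mem_normalizer_of_fixed [Finite G] {q : G ⧸ Subgroup.zpowers x} (hq : x • q = q) :
    Quotient.out q ∈ Subgroup.normalizer (Subgroup.zpowers x : Set G) := by
  have hsmul : (x • q : G ⧸ Subgroup.zpowers x) = ((x * Quotient.out q : G) : G ⧸ Subgroup.zpowers x) := by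
    conv_lhs => rw [← Quotient.out_eq q]
    rfl
  rw [hsmul] at hq
  set g := Quotient.out q with hg
  have h1 : ((x * g : G) : G ⧸ Subgroup.zpowers x) = (g : G ⧸ Subgroup.zpowers x) := by
    rw [hq]
    exact (Quotient.out_eq q).symm
  rw [eq_comm, QuotientGroup.eq] at h1
  have h2 : (Subgroup.zpowers x).map (MulAut.conj g⁻¹).toMonoidHom ≤ Subgroup.zpowers x := by
    rw [MonoidHom.map_zpowers, Subgroup.zpowers_le]
    change g⁻¹ * x * g⁻¹⁻¹ ∈ Subgroup.zpowers x
    rw [inv_inv, mul_assoc]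
    exact h1
  have h3 : (Subgroup.zpowers x).map (MulAut.conj g⁻¹).toMonoidHom = Subgroup.zpowers x := by
    apply Subgroup.eq_of_le_of_card_ge h2
    rw [← Nat.card_congr ((Subgroup.zpowers x).equivMapOfInjective _ (MulAut.conj g⁻¹).injective).toEquiv]
  have h4 : g⁻¹ ∈ Subgroup.normalizer (Subgroup.zpowers x : Set G) := Subgroup.mem_normalizer_iff_map_conj_eq.2 h3
  exact inv_mem_iff.1 h4

theorem iterate_smul_eq {p : ℕ} {x : G} (hx : x ^ p = 1) (P : Subgroup G) (q : G ⧸ P) :
    (fun q : G ⧸ P => x • q)^[p] q = q := by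
  rw [smul_iterate, hx]
  exact one_smul G q

theorem card_fixed_ne_zero {p : ℕ} [hp : Fact p.Prime] [Finite G] (hx : orderOf x = p) (syl : ¬ p ^ 2 ∣ Nat.card G)
    [Fintype (G ⧸ Subgroup.zpowers x)] [DecidableEq (G ⧸ Subgroup.zpowers x)] :
    ((Finset.univ.filter (fun q : G ⧸ Subgroup.zpowers x => x • q = q)).card : ZMod p) ≠ 0 := by
  have hper : ∀ q : G ⧸ Subgroup.zpowers x, (fun q : G ⧸ Subgroup.zpowers x => x • q)^[p] q = q :=
    fun q => iterate_smul_eq (by rw [← hx, pow_orderOf_eq_one]) _ q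
  intro h0
  have h1 := sum_eq_sum_fixed (p := p) (fun q : G ⧸ Subgroup.zpowers x => x • q) (fun _ => (1 : ZMod p)) (fun z => z)
    (fun _ => rfl)
    (fun y => by
      have h2 : ∀ i, (fun z : ZMod p => z)^[i] y = y := fun i => by
        induction i with
        | zero => rfl
        | succ i ih => rw [Function.iterate_succ_apply, ih]
      rw [Finset.sum_congr rfl (fun i _ => h2 i), Finset.sum_const, Finset.card_range, nsmul_eq_mul,
        CharP.cast_eq_zero, zero_mul]) hper
  rw [Finset.sum_const, Finset.sum_const, Finset.card_univ, nsmul_eq_mul, nsmul_eq_mul, mul_one, mul_one, h0,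
    ← Nat.card_eq_fintype_card, ZMod.natCast_eq_zero_iff] at h1
  apply syl
  have h2 := Subgroup.card_eq_card_quotient_mul_card_subgroup (Subgroup.zpowers x)
  rw [h2, pow_two]
  refine mul_dvd_mul h1 ?_
  rw [Nat.card_zpowers, hx]

end gen

/-- **Self-duality.** -/
theorem dual_equiv {p : ℕ} [hp : Fact p.Prime] {G : Type*} [Group G] [Finite G] {x n₀ : G} (hx : orderOf x = p)
    (syl : ¬ p ^ 2 ∣ Nat.card G) (hW : Wey x n₀) {C : Type*} [AddCommGroup C] [Module (ZMod p) C]
    [FiniteDimensional (ZMod p) C] (σ : Representation (ZMod p) G C) {m : ℕ} (hC : finrank (ZMod p) C = m)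
    (hm : 0 < m) (hmp : m ≤ p - 1) (reg : (σ x - 1) ^ (m - 1) ≠ 0)
    (irr : ∀ U : Submodule (ZMod p) C, (∀ g, ∀ u ∈ U, σ g u ∈ U) → U = ⊥ ∨ U = ⊤) :
    ∃ θ : Dual (ZMod p) C ≃ₗ[ZMod p] C, ∀ g f, θ (σ.dual g f) = σ g (θ f) := by
  classical
  have hxp : x ^ p = 1 := by rw [← hx, pow_orderOf_eq_one]
  have hnil := nil_of σ hxp hC hm
  have hD : finrank (ZMod p) (Dual (ZMod p) C) = m := by rw [Subspace.dual_finrank_eq, hC]
  have hnilD := nil_of σ.dual hxp hD hm
  have hmul : ∀ g g' y, σ (g * g') y = σ g (σ g' y) := fun g g' y => by rw [map_mul, Module.End.mul_apply]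
  have hone : ∀ y, σ 1 y = y := fun y => by rw [map_one, Module.End.one_apply]
  have hmulD : ∀ g g' y, σ.dual (g * g') y = σ.dual g (σ.dual g' y) := fun g g' y => by
    rw [map_mul, Module.End.mul_apply]
  have honeD : ∀ y, σ.dual 1 y = y := fun y => by rw [map_one, Module.End.one_apply]
  have hdual : ∀ g (f : Dual (ZMod p) C) y, (σ.dual g f) y = f (σ g⁻¹ y) := fun g f y => rfl
  -- `x` is a single Jordan block on the dual
  have hregD : (σ.dual x - 1) ^ (m - 1) ≠ 0 := by
    intro h0
    apply reg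
    have h1 : ∀ (k : ℕ) (f : Dual (ZMod p) C) y, (((σ.dual x - 1) ^ k) f) y = f (((σ x⁻¹ - 1) ^ k) y) := by
      intro k
      induction k with
      | zero => intro f y; rfl
      | succ k ih =>
        intro f y
        rw [pow_succ, Module.End.mul_apply, ih, pow_succ', Module.End.mul_apply]
        rw [LinearMap.sub_apply, Module.End.one_apply, LinearMap.sub_apply, hdual, LinearMap.sub_apply,
          Module.End.one_apply, map_sub]
    have h2 : (σ x⁻¹ - 1) ^ (m - 1) = 0 := by
      refine LinearMap.ext fun y => ?_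
      rw [LinearMap.zero_apply]
      rw [← Module.forall_dual_apply_eq_zero_iff (ZMod p)]
      intro f
      rw [← h1, h0, LinearMap.zero_apply, LinearMap.zero_apply]
    have h3 : σ x - 1 = (σ x⁻¹ - 1) * (- σ x) := by
      rw [sub_mul, one_mul, mul_neg, ← map_mul, inv_mul_cancel, map_one]
      abel
    have h4 : Commute (σ x⁻¹ - 1) (- σ x) := by
      refine Commute.neg_right (Commute.sub_left ?_ (Commute.one_left _))
      change σ x⁻¹ * σ x = σ x * σ x⁻¹
      rw [← map_mul, ← map_mul, mul_inv_cancel, inv_mul_cancel]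
    rw [h3, h4.mul_pow, h2, zero_mul]
  obtain ⟨φ, hφ⟩ := exists_equiv hm hC hD hnil reg hnilD hregD
  obtain ⟨w, hw⟩ : ∃ w, ((σ x - 1) ^ (m - 1)) w ≠ 0 := by
    by_contra hno
    push Not at hno
    exact reg (LinearMap.ext hno)
  set v := ((σ x - 1) ^ (m - 1)) w with hv
  have hφk : ∀ (k : ℕ) y, φ (((σ x - 1) ^ k) y) = ((σ.dual x - 1) ^ k) (φ y) := by
    intro k
    induction k with
    | zero => intro y; rfl
    | succ k ih => intro y; rw [pow_succ, Module.End.mul_apply, ih, hφ, pow_succ, Module.End.mul_apply]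
  have hφv : φ v = ((σ.dual x - 1) ^ (m - 1)) (φ w) := hφk _ _
  have hφv0 : φ v ≠ 0 := fun h => hw (φ.map_eq_zero_iff.1 h)
  have hφx : ∀ y, φ (σ x y) = σ.dual x (φ y) := by
    intro y
    have h1 := hφ y
    rw [LinearMap.sub_apply, LinearMap.sub_apply, Module.End.one_apply, Module.End.one_apply, map_sub] at h1
    exact sub_left_injective h1
  have hxv : σ x v = v := by
    have h1 : (σ x - 1) v = 0 := by
      rw [hv, ← Module.End.mul_apply, ← pow_succ', Nat.sub_add_cancel hm, hnil, LinearMap.zero_apply]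
    rw [LinearMap.sub_apply, Module.End.one_apply] at h1
    exact sub_eq_zero.1 h1
  have hxl : σ.dual x (φ v) = φ v := by rw [← hφx, hxv]
  have hxiv : ∀ i : ℕ, σ (x ^ i) v = v := by
    intro i
    induction i with
    | zero => rw [pow_zero, hone]
    | succ i ih => rw [pow_succ, hmul, hxv, ih]
  have hxil : ∀ i : ℕ, σ.dual (x ^ i) (φ v) = φ v := by
    intro i
    induction i with
    | zero => rw [pow_zero, honeD]
    | succ i ih => rw [pow_succ, hmulD, hxl, ih]
  -- `λ (x ^ i z) = λ z`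
  have hlx : ∀ (i : ℕ) z, (φ v) (σ (x ^ i) z) = (φ v) z := by
    intro i z
    have h1 := hdual (x ^ i) (φ v) (σ (x ^ i) z)
    rw [hxil, ← hmul, inv_mul_cancel, hone] at h1
    exact h1
  have hv_line : ∀ g ∈ Subgroup.normalizer (Subgroup.zpowers x : Set G), ∃ a : ZMod p, σ g v = a • v :=
    fun g hg => norm_line σ hg hx hC hm hw
  have hl_line : ∀ g ∈ Subgroup.normalizer (Subgroup.zpowers x : Set G), ∃ a : ZMod p,
      σ.dual g (φ v) = a • φ v := by
    intro g hg
    have hw' : ((σ.dual x - 1) ^ (m - 1)) (φ w) ≠ 0 := by rw [← hφv]; exact hφv0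
    rw [hφv]
    exact norm_line σ.dual hg hx hD hm hw'
  -- the weights agree on the torus
  have htorus : ∀ d ∈ Subgroup.normalizer (Subgroup.zpowers x : Set G),
      n₀⁻¹ * d * n₀ ∈ Subgroup.normalizer (Subgroup.zpowers x : Set G) →
      ∃ a : ZMod p, σ d v = a • v ∧ σ.dual d (φ v) = a • φ v := by
    intro d hd hd'
    have hinv := hW.inv d hd hd'
    obtain ⟨a, ha⟩ := hv_line d hd
    obtain ⟨l, hl⟩ := hl_line d hd
    refine ⟨a, ha, ?_⟩
    rw [hl]
    suffices l = a by rw [this]
    rcases Nat.lt_or_ge 1 m with hm1 | hm1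
    · -- `m ≥ 2`
      have hlv : (φ v) v = 0 := by
        obtain ⟨z, hz⟩ : ∃ z, v = (σ x - 1) z :=
          ⟨((σ x - 1) ^ (m - 1 - 1)) w, by
            rw [← Module.End.mul_apply, ← pow_succ', Nat.sub_add_cancel (by omega)]⟩
        have h1 : (φ v) ((σ x - 1) z) = 0 := by
          rw [LinearMap.sub_apply, Module.End.one_apply, map_sub]
          have h2 := hlx 1 z
          rw [pow_one] at h2
          rw [h2, sub_self]
        exact (congrArg (φ v) hz).trans h1
      have hln : (φ v) (σ n₀ v) ≠ 0 := by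
        intro h0
        have h1 : ∀ g, (φ v) (σ g v) = 0 := by
          intro g
          by_cases hg : g ∈ Subgroup.normalizer (Subgroup.zpowers x : Set G)
          · obtain ⟨b, hb⟩ := hv_line g hg
            rw [hb, map_smul, hlv, smul_zero]
          · obtain ⟨i, hi⟩ := hW.big g hg
            obtain ⟨b, hb⟩ := hv_line _ hi
            have h2 : σ (x ^ i) (σ g v) = b • σ n₀ v := by
              rw [← map_smul, ← hb, ← hmul, ← hmul, mul_inv_cancel_left]
            rw [← hlx i, h2, map_smul, h0, smul_zero]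
        let U : Submodule (ZMod p) C :=
          { carrier := {y | ∀ g, (φ v) (σ g y) = 0}
            add_mem' := fun {a b} ha hb g => by rw [map_add, map_add, ha g, hb g, add_zero]
            zero_mem' := fun g => by rw [map_zero, map_zero]
            smul_mem' := fun t y hy g => by rw [map_smul, map_smul, hy g, smul_zero] }
        rcases irr U (fun g u hu g' => by rw [← hmul]; exact hu _) with h2 | h2
        · have h3 : v ∈ U := h1
          rw [h2, Submodule.mem_bot] at h3
          exact hw h3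
        · apply hφv0
          refine LinearMap.ext fun y => ?_
          have h3 : y ∈ U := by rw [h2]; exact Submodule.mem_top
          have h4 := h3 1
          rw [hone] at h4
          exact h4
      have hd2 : d = n₀⁻¹ * d⁻¹ * n₀ := by
        rw [← hinv]
        group
      have h1 : (σ.dual d (φ v)) (σ n₀ v) = (l • φ v) (σ n₀ v) := by rw [hl]
      rw [hdual, ← hmul, LinearMap.smul_apply, smul_eq_mul] at h1
      have h2 : d⁻¹ * n₀ = n₀ * d := by
        conv_rhs => rw [hd2]
        group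
      rw [h2, hmul, ha, map_smul, map_smul, smul_eq_mul] at h1
      have h3 : (l - a) * (φ v) (σ n₀ v) = 0 := by linear_combination -h1
      exact sub_eq_zero.1 ((mul_eq_zero.1 h3).resolve_right hln)
    · -- `m = 1`
      have hm' : m = 1 := by omega
      have hv1 : v = w := by rw [hv, hm']; rfl
      have hall : ∀ y : C, ∃ b : ZMod p, y = b • v := by
        intro y
        obtain ⟨b, hb⟩ := range_top hC hm hnil hw y
        refine ⟨b, ?_⟩
        rw [hv]
        rw [← hb, hm']
        rfl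
      have hlv : (φ v) v ≠ 0 := by
        intro h0
        apply hφv0
        refine LinearMap.ext fun y => ?_
        obtain ⟨b, hb⟩ := hall y
        rw [hb, map_smul, h0, smul_zero, LinearMap.zero_apply]
      obtain ⟨c, hc⟩ := hall (σ n₀ v)
      have hcc : c * c = 1 := by
        have h1 : σ (n₀ * n₀) v = (c * c) • v := by rw [hmul, hc, map_smul, hc, smul_smul]
        rw [hW.sq, hone] at h1
        have h2 : (c * c - 1) • v = 0 := by rw [sub_smul, ← h1, one_smul, sub_self]
        exact sub_eq_zero.1 ((smul_eq_zero.1 h2).resolve_right hw)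
      have haa : a * a = 1 := by
        have h1 : σ (n₀ * d * n₀⁻¹ * d) v = (a * a) • v := by
          have h2 : n₀⁻¹ = n₀ := inv_eq_of_mul_eq_one_left hW.sq
          simp only [hmul, h2, ha, map_smul, hc, smul_smul]
          congr 1
          linear_combination (a * a) * hcc
        rw [hinv, inv_mul_cancel, hone] at h1
        have h2 : (a * a - 1) • v = 0 := by rw [sub_smul, ← h1, one_smul, sub_self]
        exact sub_eq_zero.1 ((smul_eq_zero.1 h2).resolve_right hw)
      have h1 : (σ.dual d (φ v)) (σ d v) = (l • φ v) (σ d v) := by rw [hl]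
      rw [hdual, ← hmul, LinearMap.smul_apply, smul_eq_mul, inv_mul_cancel, hone, ha, map_smul, smul_eq_mul] at h1
      have h3 : (l * a - 1) * (φ v) v = 0 := by linear_combination -h1
      have h4 := sub_eq_zero.1 ((mul_eq_zero.1 h3).resolve_right hlv)
      calc l = l * (a * a) := by rw [haa, mul_one]
        _ = (l * a) * a := by ring
        _ = a := by rw [h4, one_mul]
  -- on the whole normalizer
  have hnorm : ∀ g ∈ Subgroup.normalizer (Subgroup.zpowers x : Set G),
      ∃ a : ZMod p, σ g v = a • v ∧ σ.dual g (φ v) = a • φ v := by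
    intro g hg
    have h1 : g * n₀ ∉ Subgroup.normalizer (Subgroup.zpowers x : Set G) := by
      intro h1
      apply hW.notMem
      have h2 := mul_mem (inv_mem hg) h1
      rwa [inv_mul_cancel_left] at h2
    obtain ⟨i, hi⟩ := hW.big _ h1
    have hxN : x ^ i ∈ Subgroup.normalizer (Subgroup.zpowers x : Set G) :=
      Subgroup.le_normalizer (pow_mem (Subgroup.mem_zpowers x) i)
    obtain ⟨a, ha1, ha2⟩ := htorus (x ^ i * g) (mul_mem hxN hg) (by
      rw [show n₀⁻¹ * (x ^ i * g) * n₀ = n₀⁻¹ * (x ^ i * (g * n₀)) by group]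
      exact hi)
    refine ⟨a, ?_, ?_⟩
    · have h2 : σ (x ^ i)⁻¹ (σ (x ^ i * g) v) = σ (x ^ i)⁻¹ (a • v) := by rw [ha1]
      rw [← hmul, inv_mul_cancel_left, map_smul] at h2
      have h3 : σ (x ^ i)⁻¹ v = v := by
        conv_lhs => rw [← hxiv i]
        rw [← hmul, inv_mul_cancel, hone]
      rw [h2, h3]
    · have h2 : σ.dual (x ^ i)⁻¹ (σ.dual (x ^ i * g) (φ v)) = σ.dual (x ^ i)⁻¹ (a • φ v) := by rw [ha2]
      rw [← hmulD, inv_mul_cancel_left, map_smul] at h2
      have h3 : σ.dual (x ^ i)⁻¹ (φ v) = φ v := by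
        conv_lhs => rw [← hxil i]
        rw [← hmulD, inv_mul_cancel, honeD]
      rw [h2, h3]
  -- the relative trace
  set P := Subgroup.zpowers x with hP
  set A := σ.linHom σ.dual with hA
  have hAapp : ∀ g (Z : C →ₗ[ZMod p] Dual (ZMod p) C) y, A g Z y = σ.dual g (Z (σ g⁻¹ y)) := fun g Z y => rfl
  have hφP : ∀ u ∈ P, A u (φ : C →ₗ[ZMod p] Dual (ZMod p) C) = φ := by
    intro u hu
    have h1 : P ≤ { carrier := {g | A g (φ : C →ₗ[ZMod p] Dual (ZMod p) C) = φ}
                    one_mem' := by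
                      change A 1 (φ : C →ₗ[ZMod p] Dual (ZMod p) C) = φ
                      rw [map_one, Module.End.one_apply]
                    mul_mem' := fun {a b} ha hb => by
                      change A (a * b) (φ : C →ₗ[ZMod p] Dual (ZMod p) C) = φ
                      change A a (φ : C →ₗ[ZMod p] Dual (ZMod p) C) = φ at ha
                      change A b (φ : C →ₗ[ZMod p] Dual (ZMod p) C) = φ at hb
                      rw [map_mul, Module.End.mul_apply, hb, ha]
                    inv_mem' := fun {a} ha => by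
                      change A a⁻¹ (φ : C →ₗ[ZMod p] Dual (ZMod p) C) = φ
                      change A a (φ : C →ₗ[ZMod p] Dual (ZMod p) C) = φ at ha
                      conv_lhs => rw [← ha]
                      rw [← Module.End.mul_apply, ← map_mul, inv_mul_cancel, map_one, Module.End.one_apply] } := by
      rw [hP, Subgroup.zpowers_le]
      change A x (φ : C →ₗ[ZMod p] Dual (ZMod p) C) = φ
      refine LinearMap.ext fun y => ?_
      rw [hAapp]
      change σ.dual x (φ (σ x⁻¹ y)) = φ y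
      rw [← hφx, ← hmul, mul_inv_cancel, hone]
    exact h1 hu
  set Θ := relSum A P (φ : C →ₗ[ZMod p] Dual (ZMod p) C) with hΘ
  have hΘg : ∀ g y, Θ (σ g y) = σ.dual g (Θ y) := by
    intro g y
    have h1 := LinearMap.congr_fun (apply_relSum A P (φ : C →ₗ[ZMod p] Dual (ZMod p) C) hφP g) (σ g y)
    rw [hAapp, ← hmul, inv_mul_cancel, hone] at h1
    exact h1.symm
  let i1 : Fintype (G ⧸ P) := Fintype.ofFinite _
  have hΘy : ∀ y, Θ y = ∑ q : G ⧸ P, A (Quotient.out q) (φ : C →ₗ[ZMod p] Dual (ZMod p) C) y := by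
    intro y
    rw [hΘ, relSum_eq, LinearMap.sum_apply]
  have hsmul : ∀ q : G ⧸ P, (x • q : G ⧸ P) = ((x * Quotient.out q : G) : G ⧸ P) := by
    intro q
    conv_lhs => rw [← Quotient.out_eq q]
    rfl
  have hΘv : Θ v = ((Finset.univ.filter (fun q : G ⧸ P => x • q = q)).card : ZMod p) • φ v := by
    rw [hΘy]
    rw [sum_eq_sum_fixed (p := p) (fun q : G ⧸ P => x • q)
      (fun q => A (Quotient.out q) (φ : C →ₗ[ZMod p] Dual (ZMod p) C) v) (fun z => σ.dual x z) ?_ ?_
      (fun q => iterate_smul_eq hxp _ q)]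
    · have h1 : ∀ q ∈ Finset.univ.filter (fun q : G ⧸ P => x • q = q),
          A (Quotient.out q) (φ : C →ₗ[ZMod p] Dual (ZMod p) C) v = φ v := by
        intro q hq
        have h2 := mem_normalizer_of_fixed (Finset.mem_filter.1 hq).2
        obtain ⟨a, ha1, ha2⟩ := hnorm _ (inv_mem h2)
        rw [hAapp, ha1]
        change σ.dual (Quotient.out q) (φ (a • v)) = φ v
        rw [map_smul, ← ha2, ← hmulD, mul_inv_cancel, honeD]
      rw [Finset.sum_congr rfl h1, Finset.sum_const, ← Nat.cast_smul_eq_nsmul (ZMod p)]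
    · intro q
      rw [hsmul, out_apply A P (φ : C →ₗ[ZMod p] Dual (ZMod p) C) hφP, hAapp, hAapp, mul_inv_rev, hmulD, hmul]
      have h1 : σ x⁻¹ v = v := by
        conv_lhs => rw [← hxv]
        rw [← hmul, inv_mul_cancel, hone]
      rw [h1]
    · intro y
      have h0 : (σ.dual x - 1) ^ (p - 1) = 0 := by
        rw [show p - 1 = (p - 1 - m) + m by omega, pow_add, hnilD, mul_zero]
      have h1 := (norm_eq (p := p) (A := End (ZMod p) (Dual (ZMod p) C)) (σ.dual x)).trans h0
      have h2 := LinearMap.congr_fun h1 y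
      rw [LinearMap.sum_apply, LinearMap.zero_apply] at h2
      rw [← h2]
      refine Finset.sum_congr rfl fun i _ => ?_
      rw [Module.End.pow_apply]
  have hΘv0 : Θ v ≠ 0 := by
    rw [hΘv]
    exact smul_ne_zero (card_fixed_ne_zero hx syl) hφv0
  have hker : LinearMap.ker Θ = ⊥ := by
    rcases irr (LinearMap.ker Θ) (fun g u hu => by
      rw [LinearMap.mem_ker] at hu ⊢
      rw [hΘg, hu, map_zero]) with h1 | h1
    · exact h1
    · exfalso
      apply hΘv0
      have h2 : v ∈ LinearMap.ker Θ := by rw [h1]; exact Submodule.mem_top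
      exact h2
  let e : C ≃ₗ[ZMod p] Dual (ZMod p) C :=
    LinearEquiv.ofInjectiveOfFinrankEq Θ (LinearMap.ker_eq_bot.1 hker) (by rw [hC, hD])
  have he : ∀ y, e y = Θ y := fun y => rfl
  refine ⟨e.symm, fun g f => ?_⟩
  rw [LinearEquiv.symm_apply_eq, he, hΘg, ← he, LinearEquiv.apply_symm_apply]

/-- **N2 + N3.** -/
theorem exists_dual_equiv {p : ℕ} [hp : Fact p.Prime] {G : Type*} [Group G] [Finite G] {x : G} (ord : orderOf x = p)
    (syl : ¬ p ^ 2 ∣ Nat.card G) (cent : ∀ g, Commute g x → g ∈ Subgroup.zpowers x)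
    (hnn : ¬ (Subgroup.zpowers x).Normal)
    {B : Type*} [AddCommGroup B] [Module (ZMod p) B] [FiniteDimensional (ZMod p) B]
    (ρ : Representation (ZMod p) G B) (faith : Function.Injective ρ) {s : ℕ} (dim : finrank (ZMod p) B = s)
    (two_le : 2 ≤ s) (le : 2 * s ≤ p - 1) (reg : (ρ x - 1) ^ (s - 1) ≠ 0)
    {C : Type*} [AddCommGroup C] [Module (ZMod p) C] [FiniteDimensional (ZMod p) C]
    (σ : Representation (ZMod p) G C) {m : ℕ} (hC : finrank (ZMod p) C = m)
    (hm : 0 < m) (hmp : m ≤ p - 1) (regC : (σ x - 1) ^ (m - 1) ≠ 0)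
    (irr : ∀ U : Submodule (ZMod p) C, (∀ g, ∀ u ∈ U, σ g u ∈ U) → U = ⊥ ∨ U = ⊤) :
    ∃ θ : Dual (ZMod p) C ≃ₗ[ZMod p] C, ∀ g f, θ (σ.dual g f) = σ g (θ f) := by
  obtain ⟨n₀, hW⟩ := Reg.exists_weyl (ρ := ρ) (s := s)
    ⟨ord, dim, two_le, le, reg, syl, cent, faith⟩ hnn
  exact dual_equiv ord syl hW σ hC hm hmp regC irr

end Cfsg.Agent.H782.Weyl
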