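import Mathlib

/-!
# The Fitting decomposition argument (helper782)

Abstract linear algebra: `c` unipotent preserving a bilinear form `b`, `Θ` commuting with `c`, `Θ X = m X`, `Θ` maps
the fixed vectors of `c` into the line of `X`, and `(c - 1) ^ 2 F = 2 X` with `b X F ≠ 0`. Then the Fitting-one
component of `Θ` is spanned by `X`, `A₁`, `A`.
-/

set_option autoImplicit false

namespace Cfsg.Agent.H782.Weyl

open Module

theorem fit_core {K V : Type*} [Field K] [AddCommGroup V] [Module K V] [FiniteDimensional K V]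
    (h2 : (2 : K) ≠ 0) (b : V →ₗ[K] V →ₗ[K] K) (c Θ : End K V) (X F : V) (m : K) (hm : m ≠ 0)
    (hb : ∀ y z, b (c y) (c z) = b y z) (hcomm : ∀ y, Θ (c y) = c (Θ y)) (hcX : c X = X) (hΘX : Θ X = m • X)
    (hspan : ∀ y, c y = y → ∃ t : K, Θ y = t • X) (hF : (c - 1) ((c - 1) F) = (2 : K) • X) (hα : b X F ≠ 0)
    (hnil : ∃ k : ℕ, (c - 1) ^ k = 0) :
    ∃ n : ℕ, ∃ A A₁ : V, X ∈ LinearMap.range (Θ ^ n) ∧ A ∈ LinearMap.range (Θ ^ n) ∧ c A = A + A₁ ∧
      c A₁ = A₁ + (2 : K) • X ∧ b X A ≠ 0 ∧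
      ∀ u ∈ LinearMap.range (Θ ^ n), ∃ r q t : K, u = r • X + q • A₁ + t • A := by
  obtain ⟨n, hn1, hn⟩ := ((Filter.eventually_ge_atTop 1).and
    (LinearMap.eventually_isCompl_ker_pow_range_pow Θ)).exists
  set U := LinearMap.range (Θ ^ n) with hU
  set Q := LinearMap.ker (Θ ^ n) with hQ
  set Δ := c - 1 with hΔ
  have hcommn : ∀ (k : ℕ) y, (Θ ^ k) (c y) = c ((Θ ^ k) y) := by
    intro k
    induction k with
    | zero => intro y; rw [pow_zero, Module.End.one_apply, Module.End.one_apply]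
    | succ k ih => intro y; rw [pow_succ, Module.End.mul_apply, Module.End.mul_apply, hcomm, ih]
  have hcU : ∀ u ∈ U, c u ∈ U := by
    rintro _ ⟨y, rfl⟩
    exact ⟨c y, hcommn n y⟩
  have hΔU : ∀ u ∈ U, Δ u ∈ U := fun u hu => by
    rw [hΔ, LinearMap.sub_apply, Module.End.one_apply]
    exact U.sub_mem (hcU u hu) hu
  have hΔQ : ∀ u ∈ Q, Δ u ∈ Q := fun u hu => by
    rw [hΔ, LinearMap.sub_apply, Module.End.one_apply]
    refine Q.sub_mem ?_ hu
    rw [hQ, LinearMap.mem_ker, hcommn, LinearMap.mem_ker.1 hu, map_zero]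
  have hΘXn : ∀ k : ℕ, (Θ ^ k) X = m ^ k • X := by
    intro k
    induction k with
    | zero => rw [pow_zero, pow_zero, Module.End.one_apply, one_smul]
    | succ k ih => rw [pow_succ', Module.End.mul_apply, ih, map_smul, hΘX, smul_smul, pow_succ]
  have hXU : X ∈ U := ⟨(m ^ n)⁻¹ • X, by rw [map_smul, hΘXn, smul_smul, inv_mul_cancel₀ (pow_ne_zero _ hm), one_smul]⟩
  have hfix : ∀ y ∈ U, c y = y → ∃ t : K, y = t • X := by
    intro y hy hcy
    obtain ⟨t, ht⟩ := hspan y hcy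
    refine ⟨t * m⁻¹, ?_⟩
    have h1 : y - (t * m⁻¹) • X ∈ U := U.sub_mem hy (U.smul_mem _ hXU)
    have h3 : Θ (y - (t * m⁻¹) • X) = 0 := by
      rw [map_sub, map_smul, ht, hΘX, smul_smul, mul_assoc, inv_mul_cancel₀ hm, mul_one, sub_self]
    have h4 : y - (t * m⁻¹) • X ∈ Q := by
      rw [hQ, LinearMap.mem_ker]
      obtain ⟨j, rfl⟩ := Nat.exists_eq_add_of_le hn1
      rw [add_comm, pow_succ, Module.End.mul_apply, h3, map_zero]
    have h5 := Submodule.disjoint_def.1 hn.disjoint _ h4 h1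
    exact sub_eq_zero.1 h5
  have hΔfix : ∀ y, Δ y = 0 → c y = y := by
    intro y hy
    rw [hΔ, LinearMap.sub_apply, Module.End.one_apply] at hy
    exact sub_eq_zero.1 hy
  have hcΔ : ∀ y, c y = y + Δ y := by
    intro y
    rw [hΔ, LinearMap.sub_apply, Module.End.one_apply]
    abel
  have hΔX : Δ X = 0 := by
    rw [hΔ, LinearMap.sub_apply, Module.End.one_apply, hcX, sub_self]
  -- decompose `F`
  obtain ⟨k, A, hkA⟩ : ∃ (k : Q) (A : U), (k : V) + (A : V) = F := by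
    have h1 : F ∈ Q ⊔ U := by rw [hn.sup_eq_top]; exact Submodule.mem_top
    obtain ⟨k, hk, A, hA, h⟩ := Submodule.mem_sup.1 h1
    exact ⟨⟨k, hk⟩, ⟨A, hA⟩, h⟩
  have hsum : Δ (Δ (k : V)) + Δ (Δ (A : V)) = (2 : K) • X := by
    rw [← hF, ← hkA, map_add, map_add]
  have hkQ : Δ (Δ (k : V)) ∈ Q := hΔQ _ (hΔQ _ k.2)
  have hk0 : Δ (Δ (k : V)) = 0 := by
    have h1 : Δ (Δ (k : V)) ∈ U := by
      have h2 : Δ (Δ (k : V)) = (2 : K) • X - Δ (Δ (A : V)) := by rw [← hsum]; abel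
      rw [h2]
      exact U.sub_mem (U.smul_mem _ hXU) (hΔU _ (hΔU _ A.2))
    exact Submodule.disjoint_def.1 hn.disjoint _ hkQ h1
  have hA2 : Δ (Δ (A : V)) = (2 : K) • X := by rw [← hsum, hk0, zero_add]
  have hbΔ : ∀ y z, b (Δ y) (c z) = - b y (Δ z) := by
    intro y z
    rw [hcΔ z, map_add]
    have h1 := hb y z
    rw [hcΔ y, hcΔ z, map_add, map_add, LinearMap.add_apply, LinearMap.add_apply] at h1
    linear_combination h1
  have hcDc : ∀ y, Δ (c y) = c (Δ y) := by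
    intro y
    rw [hΔ, LinearMap.sub_apply, LinearMap.sub_apply, Module.End.one_apply, Module.End.one_apply, map_sub]
  have hbX : ∀ z, b X (c z) = b X z := by
    intro z
    conv_lhs => rw [← hcX]
    exact hb _ _
  have hXk : b X (k : V) = 0 := by
    have h1 : b ((2 : K) • X) (c (c (k : V))) = 0 := by
      rw [← hF, hbΔ, hcDc, hbΔ, hk0, map_zero, neg_neg]
    rw [map_smul, LinearMap.smul_apply, hbX, hbX, smul_eq_mul] at h1
    exact (mul_eq_zero.1 h1).resolve_left h2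
  have hXA : b X (A : V) ≠ 0 := by
    rw [← hkA, map_add, hXk, zero_add] at hα
    exact hα
  -- the cube vanishes
  have h43 : ∀ w ∈ U, Δ (Δ (Δ (Δ w))) = 0 → Δ (Δ (Δ w)) = 0 := by
    intro w hw h4
    obtain ⟨t, ht⟩ := hfix _ (hΔU _ (hΔU _ (hΔU _ hw))) (hΔfix _ h4)
    have h1 : b (Δ (Δ (Δ w))) (c (c (c (A : V)))) = 0 := by
      rw [hbΔ, hcDc, hcDc, hbΔ, hcDc, hbΔ, hA2, map_smul, hΔX, smul_zero, map_zero]
      simp
    rw [ht, map_smul, LinearMap.smul_apply, hbX, hbX, hbX, smul_eq_mul] at h1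
    rw [ht, (mul_eq_zero.1 h1).resolve_right hXA, zero_smul]
  have hcube : ∀ u ∈ U, Δ (Δ (Δ u)) = 0 := by
    obtain ⟨k, hk⟩ := hnil
    have key : ∀ j : ℕ, ∀ u ∈ U, (Δ ^ j) (Δ (Δ (Δ u))) = 0 → Δ (Δ (Δ u)) = 0 := by
      intro j
      induction j with
      | zero => intro u _ h; rwa [pow_zero, Module.End.one_apply] at h
      | succ j ih =>
        intro u hu h
        rw [pow_succ, Module.End.mul_apply] at h
        exact h43 u hu (ih (Δ u) (hΔU _ hu) h)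
    intro u hu
    refine key k u hu ?_
    rw [hk, LinearMap.zero_apply]
  refine ⟨n, A, Δ A, hXU, A.2, hcΔ _, ?_, hXA, ?_⟩
  · rw [hcΔ, hA2]
  · intro u hu
    obtain ⟨t, ht⟩ := hfix _ (hΔU _ (hΔU _ hu)) (hΔfix _ (hcube u hu))
    have hu' : u - (t * 2⁻¹) • (A : V) ∈ U := U.sub_mem hu (U.smul_mem _ A.2)
    have h1 : Δ (Δ (u - (t * 2⁻¹) • (A : V))) = 0 := by
      rw [map_sub, map_sub, map_smul, map_smul, ht, hA2, smul_smul, mul_assoc, inv_mul_cancel₀ h2, mul_one, sub_self]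
    obtain ⟨q, hq⟩ := hfix _ (hΔU _ hu') (hΔfix _ h1)
    have hu'' : u - (t * 2⁻¹) • (A : V) - (q * 2⁻¹) • Δ (A : V) ∈ U :=
      U.sub_mem hu' (U.smul_mem _ (hΔU _ A.2))
    have h2' : Δ (u - (t * 2⁻¹) • (A : V) - (q * 2⁻¹) • Δ (A : V)) = 0 := by
      rw [map_sub, hq, map_smul, hA2, smul_smul, mul_assoc, inv_mul_cancel₀ h2, mul_one, sub_self]
    obtain ⟨r, hr⟩ := hfix _ hu'' (hΔfix _ h2')
    refine ⟨r, q * 2⁻¹, t * 2⁻¹, ?_⟩
    rw [← hr]
    abel

end Cfsg.Agent.H782.Weyl
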