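import Cfsg.Agent.H782.Weyl.Semi
import Cfsg.Agent.H782.Weyl.FitCore

/-!
# The three-dimensional submodule of the endomorphism ring (helper782)

`Reg ρ x s` : `x` of order `p` with cyclic centralizer `⟨x⟩`, `p² ∤ |G|`, `ρ` faithful of dimension `s`,
`2 ≤ s ≤ (p - 1) / 2`, `ρ x` a single Jordan block.
* `Reg.exists_sub` : a `G`-invariant submodule `U` of `End B` spanned by `X = log (ρ x)`, `A₁` and `A`, with
  `Ad x A = A + A₁`, `Ad x A₁ = A₁ + 2 X`, `tr (X A) ≠ 0`.
-/

set_option autoImplicit false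

namespace Cfsg.Agent.H782.Weyl

open Module

variable {p : ℕ} [hp : Fact p.Prime] {G : Type*} [Group G] {B : Type*} [AddCommGroup B]
  [Module (ZMod p) B] (ρ : Representation (ZMod p) G B)

/-- the trace form -/
noncomputable def bf (Y Z : End (ZMod p) B) : ZMod p := LinearMap.trace (ZMod p) B (Y * Z)

theorem bf_add_left (Y Y' Z : End (ZMod p) B) : bf (Y + Y') Z = bf Y Z + bf Y' Z := by
  simp [bf, add_mul]

theorem bf_add_right (Y Z Z' : End (ZMod p) B) : bf Y (Z + Z') = bf Y Z + bf Y Z' := by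
  simp [bf, mul_add]

theorem bf_sub_left (Y Y' Z : End (ZMod p) B) : bf (Y - Y') Z = bf Y Z - bf Y' Z := by
  simp [bf, sub_mul]

theorem bf_sub_right (Y Z Z' : End (ZMod p) B) : bf Y (Z - Z') = bf Y Z - bf Y Z' := by
  simp [bf, mul_sub]

theorem bf_smul_left (t : ZMod p) (Y Z : End (ZMod p) B) : bf (t • Y) Z = t * bf Y Z := by
  simp [bf]

theorem bf_smul_right (t : ZMod p) (Y Z : End (ZMod p) B) : bf Y (t • Z) = t * bf Y Z := by
  simp [bf]

theorem bf_comm (Y Z : End (ZMod p) B) : bf Y Z = bf Z Y := LinearMap.trace_mul_comm _ _ _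

theorem bf_zero_left (Z : End (ZMod p) B) : bf (0 : End (ZMod p) B) Z = 0 := by simp [bf]

theorem bf_zero_right (Z : End (ZMod p) B) : bf Z (0 : End (ZMod p) B) = 0 := by simp [bf]

theorem bf_ad (g : G) (Y Z : End (ZMod p) B) : bf (Ad ρ g Y) (Ad ρ g Z) = bf Y Z := by
  unfold bf
  rw [← ad_mul, trace_ad]

/-- a functional -/
noncomputable def bfl (Z : End (ZMod p) B) : End (ZMod p) B →ₗ[ZMod p] ZMod p :=
  (LinearMap.trace (ZMod p) B) ∘ₗ (LinearMap.mulRight (ZMod p) Z)

theorem bfl_apply (Z Y : End (ZMod p) B) : bfl Z Y = bf Y Z := rfl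

/-- the projection onto the block of `X` -/
noncomputable def pi0 (α : ZMod p) (X E F : End (ZMod p) B) : End (ZMod p) (End (ZMod p) B) :=
  α⁻¹ • ((bfl F).smulRight X - (2 : ZMod p) • (bfl E).smulRight E + (bfl X).smulRight F)

theorem pi0_apply (α : ZMod p) (X E F Y : End (ZMod p) B) :
    pi0 α X E F Y = α⁻¹ • (bf Y F • X - (2 : ZMod p) • bf Y E • E + bf Y X • F) := rfl

theorem pow_ad_sub_one {x : G} {s : ℕ} (h : (ρ x - 1) ^ s = 0) (m : ℕ) (hm : 2 * s ≤ m + 1) :
    (Ad ρ x - 1) ^ m = 0 := by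
  set L : End (ZMod p) (End (ZMod p) B) := LinearMap.mulLeft (ZMod p) (ρ x) with hL
  set R : End (ZMod p) (End (ZMod p) B) := LinearMap.mulRight (ZMod p) (ρ x⁻¹) with hR
  have hLR : Commute L R := LinearMap.commute_mulLeft_right _ _
  have hc : Ad ρ x = L * R := by
    refine LinearMap.ext fun Y => ?_
    rw [ad_apply, Module.End.mul_apply, hL, hR, LinearMap.mulRight_apply, LinearMap.mulLeft_apply, mul_assoc]
  have h1 : (L - 1) ^ s = 0 := by
    have h2 : L - 1 = LinearMap.mulLeft (ZMod p) (ρ x - 1) := by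
      refine LinearMap.ext fun Y => ?_
      rw [LinearMap.sub_apply, LinearMap.mulLeft_apply, LinearMap.mulLeft_apply, sub_mul, one_mul,
        Module.End.one_apply]
    rw [h2, LinearMap.pow_mulLeft, h]
    refine LinearMap.ext fun Y => ?_
    rw [LinearMap.mulLeft_apply, zero_mul, LinearMap.zero_apply]
  have h3 : (R - 1) ^ s = 0 := by
    have h2 : R - 1 = LinearMap.mulRight (ZMod p) (ρ x⁻¹ - 1) := by
      refine LinearMap.ext fun Y => ?_
      rw [LinearMap.sub_apply, LinearMap.mulRight_apply, LinearMap.mulRight_apply, mul_sub, mul_one,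
        Module.End.one_apply]
    have h4 : ρ x⁻¹ - 1 = (ρ x - 1) * (- ρ x⁻¹) := by
      rw [sub_mul, one_mul, mul_neg, ← map_mul, mul_inv_cancel, map_one]
      abel
    have h5 : Commute (ρ x - 1) (- ρ x⁻¹) := by
      refine Commute.neg_right (Commute.sub_left ?_ (Commute.one_left _))
      change ρ x * ρ x⁻¹ = ρ x⁻¹ * ρ x
      rw [← map_mul, ← map_mul, mul_inv_cancel, inv_mul_cancel]
    rw [h2, LinearMap.pow_mulRight, h4, h5.mul_pow, h, zero_mul]
    refine LinearMap.ext fun Y => ?_
    rw [LinearMap.mulRight_apply, mul_zero, LinearMap.zero_apply]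
  have h6 : Ad ρ x - 1 = (L - 1) * R + (R - 1) := by
    rw [hc, sub_mul, one_mul]
    abel
  have h7 : Commute (L - 1) R := Commute.sub_left hLR (Commute.one_left _)
  have h8 : Commute ((L - 1) * R) (R - 1) :=
    Commute.mul_left (Commute.sub_right h7 (Commute.one_right _)) (Commute.sub_right (Commute.refl _) (Commute.one_right _))
  rw [h6]
  refine h8.add_pow_eq_zero_of_add_le_succ_of_pow_eq_zero (m := s) (n := s) ?_ h3 ?_
  · rw [h7.mul_pow, h1, zero_mul]
  · omega

/-- the standing hypotheses -/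
structure Reg (ρ : Representation (ZMod p) G B) (x : G) (s : ℕ) : Prop where
  ord : orderOf x = p
  dim : finrank (ZMod p) B = s
  two_le : 2 ≤ s
  le : 2 * s ≤ p - 1
  reg : (ρ x - 1) ^ (s - 1) ≠ 0
  syl : ¬ p ^ 2 ∣ Nat.card G
  cent : ∀ g, Commute g x → g ∈ Subgroup.zpowers x
  faith : Function.Injective ρ

namespace Reg

variable {ρ} {x : G} {s : ℕ} [FiniteDimensional (ZMod p) B] [Finite G]

omit [FiniteDimensional (ZMod p) B] [Finite G] in
theorem xp (h : Reg ρ x s) : x ^ p = 1 := by rw [← h.ord, pow_orderOf_eq_one]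

omit [Finite G] in
theorem nil (h : Reg ρ x s) : (ρ x - 1) ^ s = 0 := by
  have h1 : (ρ x - 1) ^ p = 0 := by
    have h2 : CharP (End (ZMod p) B) p := by
      have hnt : Nontrivial B := by
        apply nontrivial_of_finrank_pos (R := ZMod p)
        rw [h.dim]
        have := h.two_le
        omega
      exact charP_of_injective_algebraMap (FaithfulSMul.algebraMap_injective (ZMod p) (End (ZMod p) B)) p
    rw [sub_pow_char_of_commute p (Commute.one_right _), one_pow, ← map_pow, h.xp, map_one, sub_self]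
  have h2 := Module.End.ker_pow_le_ker_pow_finrank (ρ x - 1) p
  rw [h1, h.dim] at h2
  refine LinearMap.ext fun v => ?_
  have h3 : v ∈ LinearMap.ker (0 : End (ZMod p) B) := by rw [LinearMap.mem_ker, LinearMap.zero_apply]
  exact LinearMap.mem_ker.1 (h2 h3)

/-- the key construction -/
theorem exists_sub (h : Reg ρ x s) : ∃ (U : Submodule (ZMod p) (End (ZMod p) B)) (A A₁ : End (ZMod p) B),
    (∀ g, ∀ u ∈ U, Ad ρ g u ∈ U) ∧ logOp (ρ x) ∈ U ∧ A ∈ U ∧
    Ad ρ x (logOp (ρ x)) = logOp (ρ x) ∧ Ad ρ x A = A + A₁ ∧ Ad ρ x A₁ = A₁ + (2 : ZMod p) • logOp (ρ x) ∧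
    (∀ u ∈ U, ∃ r q t : ZMod p, u = r • logOp (ρ x) + q • A₁ + t • A) ∧
    bf (logOp (ρ x)) A ≠ 0 ∧ bf (logOp (ρ x)) (logOp (ρ x)) = 0 ∧
    (∀ Y : End (ZMod p) B, Y * logOp (ρ x) = logOp (ρ x) * Y → Y * ρ x = ρ x * Y) ∧ logOp (ρ x) ≠ 0 := by
  classical
  have hs2 := h.two_le
  have hs := h.le
  have hp5 : 5 ≤ p := by omega
  have h2ne : (2 : ZMod p) ≠ 0 := by
    intro h1
    have h2 : ((2 : ℕ) : ZMod p) = 0 := by exact_mod_cast h1
    rw [ZMod.natCast_eq_zero_iff] at h2
    have := Nat.le_of_dvd (by norm_num) h2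
    omega
  obtain ⟨E, F, hTX, hTE, hTF, hα, hXnil, hX0, hcom⟩ := exists_ops h.dim hs2 (by omega) h.nil h.reg
  set X := logOp (ρ x) with hX
  set c := Ad ρ x with hc
  have hTT : ρ x * ρ x⁻¹ = 1 := by rw [← map_mul, mul_inv_cancel, map_one]
  have hcX : c X = X := by
    rw [hc, ad_apply, hTX, mul_assoc, hTT, mul_one]
  have hcE : c E = E + X := by
    rw [hc, ad_apply, hTE, mul_assoc, hTT, mul_one]
  have hcF : c F = F + (2 : ZMod p) • E + X := by
    rw [hc, ad_apply, hTF, mul_assoc, hTT, mul_one]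
  set α := bf X F with hαdef
  have hα0 : α ≠ 0 := hα
  have hcinv : ∀ Y Z, bf (c Y) (c Z) = bf Y Z := fun Y Z => bf_ad ρ x Y Z
  -- values of functionals
  have hbX : ∀ Y, bf (c Y) X = bf Y X := fun Y => by
    conv_lhs => rw [← hcX]
    exact hcinv _ _
  have hbE : ∀ Y, bf (c Y) E = bf Y E - bf Y X := fun Y => by
    have h1 : E = c (E - X) := by rw [map_sub, hcE, hcX]; abel
    conv_lhs => rw [h1]
    rw [hcinv, bf_sub_right]
  have hbF : ∀ Y, bf (c Y) F = bf Y F - 2 * bf Y E + bf Y X := fun Y => by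
    have h1 : F = c (F - (2 : ZMod p) • E + X) := by
      rw [map_add, map_sub, map_smul, hcF, hcE, hcX, smul_add, two_smul (ZMod p) X]
      abel
    conv_lhs => rw [h1]
    rw [hcinv, bf_add_right, bf_sub_right, bf_smul_right]
  -- the projection is equivariant
  set π := pi0 α X E F with hπ
  have hπc : ∀ Y, π (c Y) = c (π Y) := by
    intro Y
    rw [hπ, pi0_apply, pi0_apply, hbX, hbE, hbF, map_smul, map_add, map_sub, map_smul, map_smul, map_smul, map_smul,
      hcX, hcE, hcF]
    congr 1
    module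
  -- fixed vectors
  have hfixX : ∀ Y, c Y = Y → bf Y X = 0 := by
    intro Y hY
    have h1 := hbE Y
    rw [hY] at h1
    linear_combination h1
  have hfixE : ∀ Y, c Y = Y → bf Y E = 0 := by
    intro Y hY
    have h1 := hbF Y
    rw [hY, hfixX Y hY] at h1
    have h2 : 2 * bf Y E = 0 := by linear_combination h1
    exact (mul_eq_zero.1 h2).resolve_left h2ne
  have hπfix : ∀ Y, c Y = Y → π Y = (α⁻¹ * bf Y F) • X := by
    intro Y hY
    rw [hπ, pi0_apply, hfixX Y hY, hfixE Y hY, zero_smul, zero_smul, smul_zero, sub_zero, add_zero, smul_smul]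
  have hπX : π X = X := by
    rw [hπfix X hcX, inv_mul_cancel₀ hα0, one_smul]
  -- the norm vanishes
  have hnorm : ∀ y : End (ZMod p) B, ∑ i ∈ Finset.range p, (fun z => c z)^[i] y = 0 := by
    intro y
    have h1 : ∑ i ∈ Finset.range p, c ^ i = 0 := by
      rw [norm_eq]
      exact pow_ad_sub_one ρ h.nil _ (by omega)
    have h2 := LinearMap.congr_fun h1 y
    rw [LinearMap.sum_apply, LinearMap.zero_apply] at h2
    rw [← h2]
    refine Finset.sum_congr rfl fun i _ => ?_
    rw [Module.End.pow_apply]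
  -- the relative trace
  set P := Subgroup.zpowers x with hP
  set A₂ := (Ad ρ).linHom (Ad ρ) with hA₂
  have hA₂app : ∀ g (Z : End (ZMod p) (End (ZMod p) B)) y, A₂ g Z y = Ad ρ g (Z (Ad ρ g⁻¹ y)) := fun g Z y => rfl
  have hxinv : ∀ y, c (Ad ρ x⁻¹ y) = y := by
    intro y
    rw [hc, ← Module.End.mul_apply, ← map_mul, mul_inv_cancel, map_one, Module.End.one_apply]
  have hπP : ∀ u ∈ P, A₂ u π = π := by
    intro u hu
    have h1 : P ≤ { carrier := {g | A₂ g π = π}
                    one_mem' := by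
                      change A₂ 1 π = π
                      rw [map_one, Module.End.one_apply]
                    mul_mem' := fun {a b} ha hb => by
                      change A₂ (a * b) π = π
                      change A₂ a π = π at ha
                      change A₂ b π = π at hb
                      rw [map_mul, Module.End.mul_apply, hb, ha]
                    inv_mem' := fun {a} ha => by
                      change A₂ a⁻¹ π = π
                      change A₂ a π = π at ha
                      conv_lhs => rw [← ha]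
                      rw [← Module.End.mul_apply, ← map_mul, inv_mul_cancel, map_one, Module.End.one_apply] } := by
      rw [hP, Subgroup.zpowers_le]
      change A₂ x π = π
      refine LinearMap.ext fun y => ?_
      rw [hA₂app, ← hc, ← hπc, hxinv]
    exact h1 hu
  set Θ := relSum A₂ P π with hΘ
  have hΘg : ∀ g y, Θ (Ad ρ g y) = Ad ρ g (Θ y) := by
    intro g y
    have h1 := LinearMap.congr_fun (apply_relSum A₂ P π hπP g) (Ad ρ g y)
    rw [hA₂app, ← Module.End.mul_apply (Ad ρ g⁻¹), ← map_mul, inv_mul_cancel, map_one, Module.End.one_apply] at h1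
    exact h1.symm
  let i1 : Fintype (G ⧸ P) := Fintype.ofFinite _
  have hΘy : ∀ y, Θ y = ∑ q : G ⧸ P, A₂ (Quotient.out q) π y := by
    intro y
    rw [hΘ, relSum_eq, LinearMap.sum_apply]
  have hsmul : ∀ q : G ⧸ P, (x • q : G ⧸ P) = ((x * Quotient.out q : G) : G ⧸ P) := by
    intro q
    conv_lhs => rw [← Quotient.out_eq q]
    rfl
  have hper : ∀ q : G ⧸ P, (fun q : G ⧸ P => x • q)^[p] q = q := by
    intro q
    rw [smul_iterate, h.xp]
    exact one_smul G q
  have hΘfix : ∀ y, c y = y → Θ y = ∑ q ∈ Finset.univ.filter (fun q : G ⧸ P => x • q = q),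
      A₂ (Quotient.out q) π y := by
    intro y hy
    rw [hΘy]
    refine sum_eq_sum_fixed (p := p) (fun q : G ⧸ P => x • q) (fun q => A₂ (Quotient.out q) π y) (fun z => c z) ?_
      hnorm hper
    intro q
    rw [hsmul, out_apply A₂ P π hπP, hA₂app, hA₂app, mul_inv_rev, map_mul, map_mul, Module.End.mul_apply,
      Module.End.mul_apply]
    congr 3
    have h1 : Ad ρ x⁻¹ y = y := by
      have h2 := hxinv y
      conv_rhs at h2 => rw [← hy]
      have h3 := congrArg (Ad ρ x⁻¹) h2
      rw [hc, ← Module.End.mul_apply, ← Module.End.mul_apply (Ad ρ x⁻¹), ← map_mul, inv_mul_cancel, map_one,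
        Module.End.one_apply, Module.End.one_apply] at h3
      exact h3
    rw [h1]
  -- the fixed cosets
  have hfixN : ∀ q : G ⧸ P, x • q = q → Quotient.out q ∈ Subgroup.normalizer (P : Set G) := by
    intro q hq
    rw [hsmul] at hq
    set g := Quotient.out q with hg
    have h1 : ((x * g : G) : G ⧸ P) = (g : G ⧸ P) := by
      rw [hq]
      exact (Quotient.out_eq q).symm
    rw [eq_comm, QuotientGroup.eq] at h1
    have h2 : P.map (MulAut.conj g⁻¹).toMonoidHom ≤ P := by
      rw [hP, MonoidHom.map_zpowers, Subgroup.zpowers_le]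
      change g⁻¹ * x * g⁻¹⁻¹ ∈ P
      rw [inv_inv, mul_assoc]
      exact h1
    have h3 : P.map (MulAut.conj g⁻¹).toMonoidHom = P := by
      apply Subgroup.eq_of_le_of_card_ge h2
      rw [← Nat.card_congr (P.equivMapOfInjective _ (MulAut.conj g⁻¹).injective).toEquiv]
    have h4 : g⁻¹ ∈ Subgroup.normalizer (P : Set G) := Subgroup.mem_normalizer_iff_map_conj_eq.2 h3
    exact inv_mem_iff.1 h4
  have hadfix : ∀ g ∈ Subgroup.normalizer (P : Set G), ∀ y, c y = y → c (Ad ρ g⁻¹ y) = Ad ρ g⁻¹ y := by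
    intro g hg y hy
    have h1 : g * x * g⁻¹ ∈ P := (Subgroup.mem_normalizer_iff.1 hg x).1 (Subgroup.mem_zpowers x)
    have h2 : ∀ u ∈ P, Ad ρ u y = y := by
      intro u hu
      obtain ⟨m, rfl⟩ := Subgroup.mem_zpowers_iff.1 hu
      have h3 : P ≤ { carrier := {g | Ad ρ g y = y}
                      one_mem' := by
                        change Ad ρ 1 y = y
                        rw [map_one, Module.End.one_apply]
                      mul_mem' := fun {a b} ha hb => by
                        change Ad ρ (a * b) y = y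
                        change Ad ρ a y = y at ha
                        change Ad ρ b y = y at hb
                        rw [map_mul, Module.End.mul_apply, hb, ha]
                      inv_mem' := fun {a} ha => by
                        change Ad ρ a⁻¹ y = y
                        change Ad ρ a y = y at ha
                        conv_lhs => rw [← ha]
                        rw [← Module.End.mul_apply, ← map_mul, inv_mul_cancel, map_one, Module.End.one_apply] } := by
        rw [hP, Subgroup.zpowers_le]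
        exact hy
      exact h3 hu
    rw [hc, ← Module.End.mul_apply, ← map_mul, show x * g⁻¹ = g⁻¹ * (g * x * g⁻¹) by group, map_mul,
      Module.End.mul_apply, h2 _ h1]
  have hfixval : ∀ y, c y = y → ∀ q : G ⧸ P, x • q = q → ∃ t : ZMod p, A₂ (Quotient.out q) π y = t • X := by
    intro y hy q hq
    have hg := hfixN q hq
    rw [hA₂app, hπfix _ (hadfix _ hg y hy), map_smul]
    obtain ⟨a, ha⟩ := ad_log_of_mem ρ h.ord hg
    rw [← hX] at ha
    exact ⟨_, by rw [ha, smul_smul]⟩
  have hfixvalX : ∀ q : G ⧸ P, x • q = q → A₂ (Quotient.out q) π X = X := by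
    intro q hq
    have hg := hfixN q hq
    obtain ⟨a, ha⟩ := ad_log_of_mem ρ h.ord (inv_mem hg)
    rw [← hX] at ha
    rw [hA₂app, ha, map_smul, hπX, ← ha, ← Module.End.mul_apply, ← map_mul, mul_inv_cancel, map_one,
      Module.End.one_apply]
  -- `Θ` on the fixed vectors
  have hΘspan : ∀ y, c y = y → ∃ t : ZMod p, Θ y = t • X := by
    intro y hy
    rw [hΘfix y hy]
    have h1 : ∀ q ∈ Finset.univ.filter (fun q : G ⧸ P => x • q = q), ∃ t : ZMod p,
        A₂ (Quotient.out q) π y = t • X := fun q hq => hfixval y hy q (Finset.mem_filter.1 hq).2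
    choose! t ht using h1
    exact ⟨∑ q ∈ Finset.univ.filter (fun q : G ⧸ P => x • q = q), t q, by
      rw [Finset.sum_smul]
      exact Finset.sum_congr rfl ht⟩
  set m : ZMod p := (Nat.card (G ⧸ P) : ZMod p) with hm
  have hm0 : m ≠ 0 := by
    intro h1
    rw [hm, ZMod.natCast_eq_zero_iff] at h1
    apply h.syl
    have h2 := Subgroup.card_eq_card_quotient_mul_card_subgroup P
    rw [h2, pow_two]
    refine mul_dvd_mul h1 ?_
    rw [hP, Nat.card_zpowers, h.ord]
  have hmfix : m = ((Finset.univ.filter (fun q : G ⧸ P => x • q = q)).card : ZMod p) := by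
    have h1 := sum_eq_sum_fixed (p := p) (fun q : G ⧸ P => x • q) (fun _ => (1 : ZMod p)) (fun z => z) (fun _ => rfl)
      (fun y => by
        have h2 : ∀ i, (fun z : ZMod p => z)^[i] y = y := fun i => by
          induction i with
          | zero => rfl
          | succ i ih => rw [Function.iterate_succ_apply, ih]
        rw [Finset.sum_congr rfl (fun i _ => h2 i), Finset.sum_const, Finset.card_range, nsmul_eq_mul,
          CharP.cast_eq_zero, zero_mul]) hper
    rw [Finset.sum_const, Finset.sum_const, Finset.card_univ, nsmul_eq_mul, nsmul_eq_mul, mul_one, mul_one] at h1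
    rw [hm, Nat.card_eq_fintype_card, h1]
  have hΘX : Θ X = m • X := by
    rw [hΘfix X hcX, Finset.sum_congr rfl (fun q hq => hfixvalX q (Finset.mem_filter.1 hq).2), Finset.sum_const, hmfix,
      ← Nat.cast_smul_eq_nsmul (ZMod p)]
  -- the bilinear form
  let b : End (ZMod p) B →ₗ[ZMod p] End (ZMod p) B →ₗ[ZMod p] ZMod p :=
    LinearMap.mk₂ (ZMod p) bf bf_add_left bf_smul_left bf_add_right bf_smul_right
  have hΔF : (c - 1) ((c - 1) F) = (2 : ZMod p) • X := by
    have h1 : (c - 1) F = (2 : ZMod p) • E + X := by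
      rw [LinearMap.sub_apply, Module.End.one_apply, hcF]
      abel
    rw [h1, LinearMap.sub_apply, Module.End.one_apply, map_add, map_smul, hcE, hcX, smul_add]
    abel
  obtain ⟨n, A, A₁, hXU, hAU, hcA, hcA₁, hXA, hspan⟩ := fit_core h2ne b c Θ X F m hm0 (fun y z => hcinv y z)
    (fun y => hΘg x y) hcX hΘX hΘspan hΔF hα ⟨p - 1, pow_ad_sub_one ρ h.nil _ (by omega)⟩
  have hgn : ∀ g (k : ℕ) y, (Θ ^ k) (Ad ρ g y) = Ad ρ g ((Θ ^ k) y) := by
    intro g k
    induction k with
    | zero => intro y; rw [pow_zero, Module.End.one_apply, Module.End.one_apply]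
    | succ k ih => intro y; rw [pow_succ, Module.End.mul_apply, Module.End.mul_apply, hΘg, ih]
  refine ⟨LinearMap.range (Θ ^ n), A, A₁, ?_, hXU, hAU, hcX, hcA, hcA₁, hspan, hXA, ?_, hcom, hX0⟩
  · rintro g _ ⟨y, rfl⟩
    exact ⟨Ad ρ g y, hgn g n y⟩
  · have h1 : IsNilpotent (X * X) := (Commute.refl X).isNilpotent_mul_right hXnil
    exact (LinearMap.isNilpotent_trace_of_isNilpotent h1).eq_zero

end Reg

end Cfsg.Agent.H782.Weyl
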