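import Mathlib

/-!
# The polynomial model of a regular unipotent operator (helper782)

`T` : a unipotent operator with one Jordan block on a space of dimension `s`, `2 ≤ s`, `s + 2 ≤ p`, over `ZMod p`.
* `exists_ops` : operators `X, E, F` with `X = - ∑ a⁻¹ T ^ a`, `T X = X T`, `T E = (E + X) T`,
  `T F = (F + 2 E + X) T`, `tr (X F) ≠ 0`, `X` nilpotent, and everything commuting with `X` commutes with `T`.
-/

set_option autoImplicit false

namespace Cfsg.Agent.H782.Weyl

open Polynomial Module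

section poly

variable {p : ℕ} [hp : Fact p.Prime]

theorem taylor_derivative' (r : ZMod p) (f : (ZMod p)[X]) :
    taylor r (derivative f) = derivative (taylor r f) := by
  simp only [taylor_apply, derivative_comp, derivative_add, derivative_X, derivative_C, add_zero, one_mul]

/-- `τ d/dτ - R / 2` -/
noncomputable def ee (R : ZMod p) : (ZMod p)[X] →ₗ[ZMod p] (ZMod p)[X] :=
  (LinearMap.mulLeft (ZMod p) X) ∘ₗ derivative - (R / 2) • LinearMap.id

/-- `τ ^ 2 d/dτ - R τ` -/
noncomputable def ff (R : ZMod p) : (ZMod p)[X] →ₗ[ZMod p] (ZMod p)[X] :=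
  (LinearMap.mulLeft (ZMod p) (X ^ 2)) ∘ₗ derivative - R • (LinearMap.mulLeft (ZMod p) X)

theorem ee_apply (R : ZMod p) (f : (ZMod p)[X]) : ee R f = X * derivative f - C (R / 2) * f := by
  simp [ee, smul_eq_C_mul]

theorem ff_apply (R : ZMod p) (f : (ZMod p)[X]) : ff R f = X ^ 2 * derivative f - C R * (X * f) := by
  simp [ff, smul_eq_C_mul]

theorem taylor_ee (R : ZMod p) (f : (ZMod p)[X]) :
    taylor 1 (ee R f) = ee R (taylor 1 f) + derivative (taylor 1 f) := by
  rw [ee_apply, ee_apply, ← taylor_derivative']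
  simp only [taylor_apply, sub_comp, mul_comp, X_comp, C_comp, C_1]
  ring

theorem taylor_ff (h2 : (2 : ZMod p) ≠ 0) (R : ZMod p) (f : (ZMod p)[X]) :
    taylor 1 (ff R f) = ff R (taylor 1 f) + (2 : ZMod p) • ee R (taylor 1 f) + derivative (taylor 1 f) := by
  rw [ff_apply, ff_apply, ee_apply, ← taylor_derivative', smul_eq_C_mul]
  simp only [taylor_apply, sub_comp, mul_comp, X_comp, C_comp, C_1, pow_comp]
  have h3 : C (2 : ZMod p) * (C (R / 2)) = C R := by
    rw [← C_mul, mul_div_cancel₀ _ h2]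
  have h4 : (C (2 : ZMod p)) = 2 := map_ofNat C 2
  linear_combination (f.comp (X + 1)) * h3 - ((derivative f).comp (X + 1) * X) * h4

theorem coeff_ff (R : ZMod p) (f : (ZMod p)[X]) (m : ℕ) :
    (ff R f).coeff (m + 1) = (m - R) * f.coeff m := by
  rw [ff_apply, coeff_sub, coeff_C_mul, coeff_X_mul, sub_mul]
  congr 1
  cases m with
  | zero =>
    rw [show (0 + 1 : ℕ) = 1 from rfl, pow_two, mul_assoc, coeff_X_mul]
    simp
  | succ m =>
    rw [show m + 1 + 1 = m + 2 from rfl, coeff_X_pow_mul, coeff_derivative]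
    push_cast
    ring

theorem derivative_mem {s : ℕ} {f : (ZMod p)[X]} (hf : f ∈ degreeLT (ZMod p) s) :
    derivative f ∈ degreeLT (ZMod p) s := by
  rw [mem_degreeLT] at hf ⊢
  exact lt_of_le_of_lt (degree_derivative_le) hf

theorem ee_mem {s : ℕ} {R : ZMod p} {f : (ZMod p)[X]} (hf : f ∈ degreeLT (ZMod p) s) :
    ee R f ∈ degreeLT (ZMod p) s := by
  rw [mem_degreeLT, degree_lt_iff_coeff_zero] at hf ⊢
  intro m hm
  rw [ee_apply, coeff_sub, coeff_C_mul, hf m hm, mul_zero, sub_zero]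
  cases m with
  | zero => simp
  | succ m =>
    rw [coeff_X_mul, coeff_derivative, hf _ hm, zero_mul]

theorem ff_mem {s : ℕ} {f : (ZMod p)[X]} (hf : f ∈ degreeLT (ZMod p) (s + 1)) :
    ff (s : ZMod p) f ∈ degreeLT (ZMod p) (s + 1) := by
  rw [mem_degreeLT, degree_lt_iff_coeff_zero] at hf ⊢
  intro m hm
  obtain ⟨m, rfl⟩ : ∃ l, m = l + 1 := ⟨m - 1, by omega⟩
  rw [coeff_ff]
  rcases Nat.lt_or_ge s m with h | h
  · rw [hf m h, mul_zero]
  · have : m = s := by omega
    rw [this, sub_self, zero_mul]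

/-- Taylor's formula -/
theorem taylor_eq (r : ZMod p) {f : (ZMod p)[X]} {s : ℕ} (hs : s ≤ p) (hf : f ∈ degreeLT (ZMod p) s) :
    taylor r f = ∑ j ∈ Finset.range s, (r ^ j * ((j.factorial : ZMod p))⁻¹) • (derivative^[j] f) := by
  classical
  have hfac : ∀ j, j < s → ((j.factorial : ℕ) : ZMod p) ≠ 0 := by
    intro j hj h
    rw [ZMod.natCast_eq_zero_iff, hp.out.dvd_factorial] at h
    omega
  let g : (ZMod p)[X] →ₗ[ZMod p] (ZMod p)[X] :=
    ∑ j ∈ Finset.range s, (r ^ j * ((j.factorial : ZMod p))⁻¹) • ((derivative : (ZMod p)[X] →ₗ[ZMod p] _) ^ j)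
  have hg : ∀ f, g f = ∑ j ∈ Finset.range s, (r ^ j * ((j.factorial : ZMod p))⁻¹) • (derivative^[j] f) := by
    intro f
    simp only [g, LinearMap.sum_apply, LinearMap.smul_apply, Module.End.pow_apply]
  rw [← hg]
  rw [degreeLT_eq_span_X_pow] at hf
  induction hf using Submodule.span_induction with
  | mem x hx =>
    rw [Finset.coe_image, Set.mem_image] at hx
    obtain ⟨n, hn, rfl⟩ := hx
    have hn' : n < s := by simpa using hn
    rw [hg, taylor_apply, pow_comp, X_comp, add_comm, add_pow]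
    rw [← Finset.sum_subset (Finset.range_subset_range.2 (by omega : n + 1 ≤ s))]
    · refine Finset.sum_congr rfl fun j hj => ?_
      have hjn : j ≤ n := by have := Finset.mem_range.1 hj; omega
      rw [iterate_derivative_X_pow_eq_smul, Nat.descFactorial_eq_factorial_mul_choose, smul_eq_C_mul]
      have h1 : (C (r ^ j * ((j.factorial : ZMod p))⁻¹) : (ZMod p)[X]) * C ((j.factorial * n.choose j : ℕ) : ZMod p)
          = C (r ^ j) * (n.choose j : (ZMod p)[X]) := by
        rw [← C_mul, ← C_eq_natCast, ← C_mul]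
        congr 1
        push_cast
        have := hfac j (by omega)
        field_simp
      rw [smul_eq_C_mul, ← mul_assoc, h1, C_pow]
      ring
    · intro j hj hjn
      have hjn' : n < j := by
        rw [Finset.mem_range] at hjn
        omega
      rw [iterate_derivative_X_pow_eq_smul, Nat.descFactorial_of_lt hjn', Nat.cast_zero, zero_smul, smul_zero]
  | zero => simp
  | add x y _ _ hx hy => rw [map_add, map_add, hx, hy]
  | smul a x _ hx => rw [map_smul, map_smul, hx]

/-- the derivative on polynomials of degree `< s` -/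
noncomputable def opX (p : ℕ) [Fact p.Prime] (s : ℕ) : End (ZMod p) (degreeLT (ZMod p) s) :=
  ((derivative : (ZMod p)[X] →ₗ[ZMod p] _) ∘ₗ (degreeLT (ZMod p) s).subtype).codRestrict _
    (fun f => derivative_mem f.2)

noncomputable def opE (p : ℕ) [Fact p.Prime] (R : ZMod p) (s : ℕ) : End (ZMod p) (degreeLT (ZMod p) s) :=
  ((ee R) ∘ₗ (degreeLT (ZMod p) s).subtype).codRestrict _ (fun f => ee_mem f.2)

noncomputable def opF (p : ℕ) [Fact p.Prime] (R : ℕ) : End (ZMod p) (degreeLT (ZMod p) (R + 1)) :=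
  ((ff (R : ZMod p)) ∘ₗ (degreeLT (ZMod p) (R + 1)).subtype).codRestrict _ (fun f => ff_mem f.2)

noncomputable def opT (p : ℕ) [Fact p.Prime] (s : ℕ) : End (ZMod p) (degreeLT (ZMod p) s) :=
  (taylorLinearEquiv (1 : ZMod p) s).toLinearMap

theorem coe_opX (s : ℕ) (f : degreeLT (ZMod p) s) : ((opX p s f : degreeLT (ZMod p) s) : (ZMod p)[X]) =
    derivative (f : (ZMod p)[X]) := rfl

theorem coe_opE (R : ZMod p) (s : ℕ) (f : degreeLT (ZMod p) s) :
    ((opE p R s f : degreeLT (ZMod p) s) : (ZMod p)[X]) = ee R (f : (ZMod p)[X]) := rfl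

theorem coe_opF (R : ℕ) (f : degreeLT (ZMod p) (R + 1)) :
    ((opF p R f : degreeLT (ZMod p) (R + 1)) : (ZMod p)[X]) = ff (R : ZMod p) (f : (ZMod p)[X]) := rfl

theorem coe_opT (s : ℕ) (f : degreeLT (ZMod p) s) : ((opT p s f : degreeLT (ZMod p) s) : (ZMod p)[X]) =
    taylor 1 (f : (ZMod p)[X]) := rfl

theorem coe_opX_pow (s j : ℕ) (f : degreeLT (ZMod p) s) :
    (((opX p s ^ j) f : degreeLT (ZMod p) s) : (ZMod p)[X]) = derivative^[j] (f : (ZMod p)[X]) := by
  induction j generalizing f with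
  | zero => rfl
  | succ j ih =>
    rw [pow_succ, Module.End.mul_apply, ih, coe_opX, Function.iterate_succ_apply]

theorem coe_opT_pow (s j : ℕ) (f : degreeLT (ZMod p) s) :
    (((opT p s ^ j) f : degreeLT (ZMod p) s) : (ZMod p)[X]) = taylor (j : ZMod p) (f : (ZMod p)[X]) := by
  induction j generalizing f with
  | zero => simp
  | succ j ih =>
    rw [pow_succ, Module.End.mul_apply, ih, coe_opT, taylor_taylor]
    congr 2
    push_cast
    ring

theorem opT_pow_eq {s : ℕ} (hs : s ≤ p) (m : ℕ) :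
    opT p s ^ m = ∑ j ∈ Finset.range s, ((m : ZMod p) ^ j * ((j.factorial : ZMod p))⁻¹) • (opX p s ^ j) := by
  refine LinearMap.ext fun f => Subtype.ext ?_
  rw [coe_opT_pow, taylor_eq (m : ZMod p) hs f.2, LinearMap.sum_apply, AddSubmonoidClass.coe_finsetSum]
  refine Finset.sum_congr rfl fun j _ => ?_
  rw [LinearMap.smul_apply, Submodule.coe_smul, coe_opX_pow]

theorem opX_pow_eq_zero (s : ℕ) : opX p s ^ s = 0 := by
  refine LinearMap.ext fun f => Subtype.ext ?_
  rw [coe_opX_pow, LinearMap.zero_apply, Submodule.coe_zero]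
  rcases eq_or_ne (f : (ZMod p)[X]) 0 with h | h
  · rw [h, iterate_derivative_zero]
  · apply iterate_derivative_eq_zero
    have h1 := mem_degreeLT.1 f.2
    rwa [degree_eq_natDegree h, Nat.cast_lt] at h1

theorem opX_pow_ne_zero {R : ℕ} (hR : R < p) : opX p (R + 1) ^ R ≠ 0 := by
  intro h
  have h1 : (X ^ R : (ZMod p)[X]) ∈ degreeLT (ZMod p) (R + 1) := by
    rw [mem_degreeLT, degree_X_pow]
    exact_mod_cast Nat.lt_succ_self R
  have h2 := congrArg (fun f : degreeLT (ZMod p) (R + 1) => (f : (ZMod p)[X])) (LinearMap.congr_fun h ⟨X ^ R, h1⟩)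
  simp only [LinearMap.zero_apply, Submodule.coe_zero] at h2
  rw [coe_opX_pow] at h2
  change derivative^[R] (X ^ R : (ZMod p)[X]) = 0 at h2
  rw [iterate_derivative_X_pow_eq_smul, Nat.descFactorial_self, Nat.sub_self, pow_zero, smul_eq_C_mul, mul_one,
    C_eq_zero, ZMod.natCast_eq_zero_iff, hp.out.dvd_factorial] at h2
  omega

theorem trace_opX_opF (R : ℕ) : 6 * LinearMap.trace (ZMod p) _ (opX p (R + 1) * opF p R) =
    - ((R : ZMod p) * (R + 1) * (R + 2)) := by
  classical
  rw [LinearMap.trace_eq_matrix_trace (ZMod p) (degreeLT.basis (ZMod p) (R + 1)), Matrix.trace]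
  have h1 : ∀ i : Fin (R + 1), Matrix.diag (LinearMap.toMatrix (degreeLT.basis (ZMod p) (R + 1))
      (degreeLT.basis (ZMod p) (R + 1)) (opX p (R + 1) * opF p R)) i =
      (((i : ℕ) : ZMod p) - R) * ((i : ℕ) + 1) := by
    intro i
    rw [Matrix.diag_apply, LinearMap.toMatrix_apply, degreeLT.basis_repr, Module.End.mul_apply, coe_opX, coe_opF,
      degreeLT.basis_val, coeff_derivative, coeff_ff, coeff_X_pow, if_pos rfl, mul_one]
  rw [Finset.sum_congr rfl (fun i _ => h1 i),
    Fin.sum_univ_eq_sum_range (fun i : ℕ => ((i : ZMod p) - R) * (i + 1)) (R + 1)]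
  have h2 : ∀ n : ℕ, 6 * ∑ i ∈ Finset.range n, ((i : ZMod p) - R) * (i + 1) =
      n * (n + 1) * (2 * n - 2 - 3 * R) := by
    intro n
    induction n with
    | zero => simp
    | succ n ih =>
      rw [Finset.sum_range_succ, mul_add, ih]
      push_cast
      ring
  rw [h2]
  push_cast
  ring

theorem sum_units (hp2 : 2 < p) {j s : ℕ} (hj : j < s) (hs : s + 1 ≤ p) :
    ∑ a : (ZMod p)ˣ, ((a⁻¹ : (ZMod p)ˣ) : ZMod p) * (a : ZMod p) ^ j = if j = 1 then -1 else 0 := by
  classical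
  have h1 : ∀ a : (ZMod p)ˣ, ((a⁻¹ : (ZMod p)ˣ) : ZMod p) * (a : ZMod p) ^ j = ((a ^ (p - 2 + j) : (ZMod p)ˣ) : ZMod p) := by
    intro a
    have h2 : a⁻¹ = a ^ (p - 2) := by
      rw [inv_eq_iff_mul_eq_one, ← pow_succ', show p - 2 + 1 = p - 1 by omega]
      exact ZMod.units_pow_card_sub_one_eq_one p a
    rw [h2, pow_add]
    push_cast
    ring
  have h3 := FiniteField.sum_pow_units (ZMod p) (p - 2 + j)
  rw [ZMod.card] at h3
  rw [Finset.sum_congr rfl (fun a _ => h1 a)]
  have h4 : ∑ a : (ZMod p)ˣ, ((a ^ (p - 2 + j) : (ZMod p)ˣ) : ZMod p) =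
      ∑ a : (ZMod p)ˣ, ((a : ZMod p) ^ (p - 2 + j)) := by
    refine Finset.sum_congr rfl fun a _ => ?_
    push_cast
    rfl
  rw [h4, h3]
  by_cases hj1 : j = 1
  · rw [if_pos hj1, if_pos]
    rw [hj1, show p - 2 + 1 = p - 1 by omega]
  · rw [if_neg hj1, if_neg]
    rintro ⟨c, hc⟩
    rcases Nat.lt_or_ge c 1 with h5 | h5
    · have : c = 0 := by omega
      rw [this, mul_zero] at hc
      omega
    · rcases Nat.lt_or_ge c 2 with h6 | h6
      · have : c = 1 := by omega
        rw [this, mul_one] at hc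
        omega
      · have h7 : (p - 1) * 2 ≤ (p - 1) * c := Nat.mul_le_mul_left _ h6
        omega

/-- the operator `log T` as an element of the group algebra of `⟨T⟩` -/
noncomputable def logOp {V : Type*} [AddCommGroup V] [Module (ZMod p) V] (T : End (ZMod p) V) : End (ZMod p) V :=
  - ∑ a : (ZMod p)ˣ, ((a⁻¹ : (ZMod p)ˣ) : ZMod p) • T ^ (a : ZMod p).val

theorem logOp_opT (hp2 : 2 < p) {s : ℕ} (hs2 : 2 ≤ s) (hs : s + 1 ≤ p) : logOp (opT p s) = opX p s := by
  classical
  unfold logOp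
  have h1 : ∀ a : (ZMod p)ˣ, ((a⁻¹ : (ZMod p)ˣ) : ZMod p) • opT p s ^ (a : ZMod p).val =
      ∑ j ∈ Finset.range s, (((a⁻¹ : (ZMod p)ˣ) : ZMod p) * (a : ZMod p) ^ j * ((j.factorial : ZMod p))⁻¹) • (opX p s ^ j) := by
    intro a
    rw [opT_pow_eq (by omega), Finset.smul_sum]
    refine Finset.sum_congr rfl fun j _ => ?_
    rw [ZMod.natCast_zmod_val, smul_smul, mul_assoc]
  rw [Finset.sum_congr rfl (fun a _ => h1 a), Finset.sum_comm]
  have h2 : ∀ j ∈ Finset.range s, ∑ a : (ZMod p)ˣ,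
      (((a⁻¹ : (ZMod p)ˣ) : ZMod p) * (a : ZMod p) ^ j * ((j.factorial : ZMod p))⁻¹) • (opX p s ^ j) =
      if j = 1 then - (opX p s) else 0 := by
    intro j hj
    rw [← Finset.sum_smul, ← Finset.sum_mul, sum_units hp2 (Finset.mem_range.1 hj) hs]
    by_cases h : j = 1
    · rw [if_pos h, if_pos h, h]
      simp
    · rw [if_neg h, if_neg h, zero_mul, zero_smul]
  rw [Finset.sum_congr rfl h2, Finset.sum_ite_eq', if_pos (Finset.mem_range.2 (by omega)), neg_neg]

theorem opT_sub_one {s : ℕ} (hs2 : 2 ≤ s) (hs : s ≤ p) : ∃ U : End (ZMod p) (degreeLT (ZMod p) s),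
    IsUnit U ∧ Commute U (opX p s) ∧ opT p s - 1 = opX p s * U := by
  obtain ⟨s, rfl⟩ : ∃ l, s = l + 1 := ⟨s - 1, by omega⟩
  set Y := opX p (s + 1) with hY
  have h1 := opT_pow_eq (p := p) hs 1
  rw [pow_one, Finset.sum_range_succ'] at h1
  simp only [Nat.cast_one, one_pow, one_mul, pow_zero, Nat.factorial_zero, inv_one, one_smul] at h1
  let U : End (ZMod p) (degreeLT (ZMod p) (s + 1)) :=
    ∑ k ∈ Finset.range s, (((k + 1).factorial : ZMod p))⁻¹ • Y ^ k
  have hcomm : Commute U Y := by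
    refine Commute.sum_left _ _ _ fun k _ => ?_
    exact ((Commute.refl Y).pow_left k).smul_left _
  refine ⟨U, ?_, hcomm, ?_⟩
  · -- `U - 1` is nilpotent
    obtain ⟨r, rfl⟩ : ∃ l, s = l + 1 := ⟨s - 1, by omega⟩
    have h3 : U = Y * (∑ k ∈ Finset.range r, (((k + 1 + 1).factorial : ZMod p))⁻¹ • Y ^ k) + 1 := by
      change ∑ k ∈ Finset.range (r + 1), (((k + 1).factorial : ZMod p))⁻¹ • Y ^ k = _
      rw [Finset.sum_range_succ', Finset.mul_sum]
      congr 1
      · refine Finset.sum_congr rfl fun k _ => ?_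
        rw [mul_smul_comm, ← pow_succ']
      · simp
    rw [h3]
    refine IsNilpotent.isUnit_add_one ?_
    refine Commute.isNilpotent_mul_right ?_ ⟨_, opX_pow_eq_zero (p := p) (r + 1 + 1)⟩
    refine Commute.sum_right _ _ _ fun k _ => ?_
    exact ((Commute.refl Y).pow_right k).smul_right _
  · rw [h1, add_sub_cancel_right, Finset.mul_sum]
    refine Finset.sum_congr rfl fun k _ => ?_
    rw [mul_smul_comm, ← pow_succ']

end poly

section transport

variable {K : Type*} [Field K] {V V' : Type*} [AddCommGroup V] [Module K V] [AddCommGroup V'] [Module K V']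

theorem linearIndependent_pow (δ : End K V) (u : V) (s : ℕ) (h0 : (δ ^ s) u = 0) (h1 : (δ ^ (s - 1)) u ≠ 0) :
    LinearIndependent K (fun i : Fin s => (δ ^ (i : ℕ)) u) := by
  classical
  rw [Fintype.linearIndependent_iff]
  intro g hg
  have hbig : ∀ m, s ≤ m → (δ ^ m) u = 0 := by
    intro m hm
    obtain ⟨l, rfl⟩ := Nat.exists_eq_add_of_le hm
    rw [add_comm, pow_add, Module.End.mul_apply, h0, map_zero]
  have key : ∀ n : ℕ, ∀ i : Fin s, (i : ℕ) = n → g i = 0 := by
    intro n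
    induction n using Nat.strong_induction_on with
    | _ n ih =>
      intro i hi
      have h2 := congrArg (δ ^ (s - 1 - n)) hg
      rw [map_sum, map_zero] at h2
      rw [Finset.sum_eq_single i] at h2
      · rw [map_smul, ← Module.End.mul_apply, ← pow_add, hi, Nat.sub_add_cancel (by have := i.2; omega)] at h2
        exact (smul_eq_zero.1 h2).resolve_right h1
      · intro j _ hj
        rcases Nat.lt_or_ge j n with h3 | h3
        · rw [ih j h3 j rfl, zero_smul, map_zero]
        · have h4 : (j : ℕ) ≠ n := fun h => hj (Fin.ext (h.trans hi.symm))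
          rw [map_smul, ← Module.End.mul_apply, ← pow_add, hbig _ (by have := i.2; omega), smul_zero]
      · intro h3
        exact absurd (Finset.mem_univ i) h3
  exact fun i => key i i rfl

/-- regular nilpotent operators are conjugate -/
theorem exists_equiv [FiniteDimensional K V] [FiniteDimensional K V'] {s : ℕ} (hs : 0 < s) (hV : finrank K V = s)
    (hV' : finrank K V' = s) {δ : End K V} {δ' : End K V'} (h0 : δ ^ s = 0) (h1 : δ ^ (s - 1) ≠ 0)
    (h0' : δ' ^ s = 0) (h1' : δ' ^ (s - 1) ≠ 0) : ∃ φ : V ≃ₗ[K] V', ∀ v, φ (δ v) = δ' (φ v) := by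
  obtain ⟨u, hu⟩ : ∃ u, (δ ^ (s - 1)) u ≠ 0 := by
    by_contra hno
    push Not at hno
    exact h1 (LinearMap.ext hno)
  obtain ⟨u', hu'⟩ : ∃ u, (δ' ^ (s - 1)) u ≠ 0 := by
    by_contra hno
    push Not at hno
    exact h1' (LinearMap.ext hno)
  have hne : Nonempty (Fin s) := ⟨⟨0, hs⟩⟩
  let b := basisOfLinearIndependentOfCardEqFinrank
    (linearIndependent_pow δ u s (by rw [h0, LinearMap.zero_apply]) hu) (by rw [Fintype.card_fin, hV])
  let b' := basisOfLinearIndependentOfCardEqFinrank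
    (linearIndependent_pow δ' u' s (by rw [h0', LinearMap.zero_apply]) hu') (by rw [Fintype.card_fin, hV'])
  have hb : ∀ i, b i = (δ ^ (i : ℕ)) u := fun i => by
    rw [coe_basisOfLinearIndependentOfCardEqFinrank]
  have hb' : ∀ i, b' i = (δ' ^ (i : ℕ)) u' := fun i => by
    rw [coe_basisOfLinearIndependentOfCardEqFinrank]
  let φ := b.equiv b' (Equiv.refl _)
  have hφ : ∀ i, φ (b i) = b' i := fun i => by rw [Basis.equiv_apply, Equiv.refl_apply]
  refine ⟨φ, ?_⟩
  have h2 : φ.toLinearMap ∘ₗ δ = δ' ∘ₗ φ.toLinearMap := by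
    refine b.ext fun i => ?_
    change φ (δ (b i)) = δ' (φ (b i))
    rw [hφ, hb, hb', ← Module.End.mul_apply, ← Module.End.mul_apply, ← pow_succ', ← pow_succ']
    rcases Nat.lt_or_ge ((i : ℕ) + 1) s with h3 | h3
    · have h4 := hφ ⟨(i : ℕ) + 1, h3⟩
      rw [hb, hb'] at h4
      exact h4
    · have h4 : (i : ℕ) + 1 = s := le_antisymm i.2 h3
      rw [h4, h0, h0', LinearMap.zero_apply, LinearMap.zero_apply, map_zero]
  exact fun v => LinearMap.congr_fun h2 v

end transport

/-- the operators `X`, `E`, `F` attached to a unipotent operator with one Jordan block -/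
theorem exists_ops {p : ℕ} [hp : Fact p.Prime] {V : Type*} [AddCommGroup V] [Module (ZMod p) V]
    [FiniteDimensional (ZMod p) V] {T : End (ZMod p) V} {s : ℕ} (hV : finrank (ZMod p) V = s) (h2 : 2 ≤ s)
    (hs : s + 2 ≤ p) (h0 : (T - 1) ^ s = 0) (h1 : (T - 1) ^ (s - 1) ≠ 0) :
    ∃ E F : End (ZMod p) V, T * logOp T = logOp T * T ∧ T * E = (E + logOp T) * T ∧
      T * F = (F + (2 : ZMod p) • E + logOp T) * T ∧ LinearMap.trace (ZMod p) V (logOp T * F) ≠ 0 ∧
      IsNilpotent (logOp T) ∧ logOp T ≠ 0 ∧ ∀ Y : End (ZMod p) V, Y * logOp T = logOp T * Y → Y * T = T * Y := by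
  obtain ⟨R, rfl⟩ : ∃ l, s = l + 1 := ⟨s - 1, by omega⟩
  have hR1 : 1 ≤ R := by omega
  rw [Nat.add_sub_cancel] at h1
  obtain ⟨U, hU, hUX, hTU⟩ := opT_sub_one (p := p) (s := R + 1) h2 (by omega)
  have hT0 : (opT p (R + 1) - 1) ^ (R + 1) = 0 := by
    rw [hTU, hUX.symm.mul_pow, opX_pow_eq_zero, zero_mul]
  have hT1 : (opT p (R + 1) - 1) ^ (R + 1 - 1) ≠ 0 := by
    rw [Nat.add_sub_cancel, hTU, hUX.symm.mul_pow]
    intro h
    apply opX_pow_ne_zero (p := p) (R := R) (by omega)
    exact ((hU.pow R).mul_left_eq_zero).1 h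
  obtain ⟨φ, hφ⟩ := exists_equiv (K := ZMod p) (V := V) (V' := degreeLT (ZMod p) (R + 1)) (s := R + 1) (by omega) hV
    (by rw [finrank_eq_card_basis (degreeLT.basis (ZMod p) (R + 1)), Fintype.card_fin]) h0 (by rwa [Nat.add_sub_cancel])
    hT0 hT1
  let ψ : End (ZMod p) (degreeLT (ZMod p) (R + 1)) ≃ₐ[ZMod p] End (ZMod p) V :=
    LinearEquiv.conjAlgEquiv (ZMod p) φ.symm
  have hψ : ∀ Y v, ψ Y v = φ.symm (Y (φ v)) := fun Y v => rfl
  have hψT : ψ (opT p (R + 1)) = T := by
    refine LinearMap.ext fun v => ?_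
    rw [hψ]
    have h3 := hφ v
    have h4 : (opT p (R + 1) - 1) (φ v) = opT p (R + 1) (φ v) - φ v := rfl
    have h5 : (T - 1) v = T v - v := rfl
    rw [h4, h5, map_sub, sub_left_inj] at h3
    rw [← h3, LinearEquiv.symm_apply_apply]
  have hlog : ψ (opX p (R + 1)) = logOp T := by
    rw [← logOp_opT (by omega) h2 (by omega), logOp, logOp, map_neg, map_sum]
    congr 1
    refine Finset.sum_congr rfl fun a _ => ?_
    rw [map_smul, map_pow, hψT]
  have h2' : (2 : ZMod p) ≠ 0 := by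
    intro h
    have : ((2 : ℕ) : ZMod p) = 0 := by exact_mod_cast h
    rw [ZMod.natCast_eq_zero_iff] at this
    have := Nat.le_of_dvd (by norm_num) this
    omega
  have hcomm : Commute (opT p (R + 1)) (opX p (R + 1)) := by
    have h3 : opT p (R + 1) = opX p (R + 1) * U + 1 := by rw [← hTU, sub_add_cancel]
    rw [h3]
    exact Commute.add_left (Commute.mul_left (Commute.refl _) hUX) (Commute.one_left _)
  refine ⟨ψ (opE p R (R + 1)), ψ (opF p R), ?_, ?_, ?_, ?_, ?_, ?_, ?_⟩
  · rw [← hlog, ← hψT, ← map_mul, ← map_mul, hcomm.eq]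
  · rw [← hlog, ← hψT, ← map_mul, ← map_add, ← map_mul]
    congr 1
    refine LinearMap.ext fun f => Subtype.ext ?_
    exact taylor_ee _ _
  · rw [← hlog, ← hψT, ← map_mul, ← map_smul, ← map_add, ← map_add, ← map_mul]
    congr 1
    refine LinearMap.ext fun f => Subtype.ext ?_
    exact taylor_ff h2' _ _
  · rw [← hlog, ← map_mul]
    have h3 : LinearMap.trace (ZMod p) V (ψ (opX p (R + 1) * opF p R)) =
        LinearMap.trace (ZMod p) _ (opX p (R + 1) * opF p R) := LinearMap.trace_conj' _ φ.symm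
    rw [h3]
    intro h4
    have h5 := trace_opX_opF (p := p) R
    rw [h4, mul_zero] at h5
    have h6 : ((R * (R + 1) * (R + 2) : ℕ) : ZMod p) = 0 := by
      push_cast
      exact neg_eq_zero.1 h5.symm
    rw [ZMod.natCast_eq_zero_iff, hp.out.dvd_mul, hp.out.dvd_mul] at h6
    rcases h6 with (h6 | h6) | h6
    · have := Nat.le_of_dvd (by omega) h6
      omega
    · have := Nat.le_of_dvd (by omega) h6
      omega
    · have := Nat.le_of_dvd (by omega) h6
      omega
  · rw [← hlog]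
    exact (IsNilpotent.map ⟨R + 1, opX_pow_eq_zero (p := p) (R + 1)⟩ ψ)
  · rw [← hlog]
    intro h
    have h3 : opX p (R + 1) = 0 := by
      apply ψ.injective
      rw [h, map_zero]
    apply opX_pow_ne_zero (p := p) (R := R) (by omega)
    rw [h3, zero_pow (by omega)]
  · intro Y hY
    obtain ⟨Z, rfl⟩ := ψ.surjective Y
    rw [← hlog, ← map_mul, ← map_mul] at hY
    have h3 := ψ.injective hY
    rw [← hψT, ← map_mul, ← map_mul]
    congr 1
    have h4 := opT_pow_eq (p := p) (s := R + 1) (by omega) 1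
    rw [pow_one] at h4
    rw [h4]
    refine (Commute.sum_right _ _ _ fun j _ => ?_)
    have h5 : Commute Z (opX p (R + 1)) := h3
    exact (h5.pow_right j).smul_right _

end Cfsg.Agent.H782.Weyl
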