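import Mathlib

/-!
# Sums over permutation modules, relative traces (helper782)

* `sum_eq_sum_fixed` : if `f (σ a) = c (f a)`, `σ ^ p = 1` and `∑_{i < p} c ^ i = 0`, then `∑ f = ∑_{σ a = a} f`;
* `relSum` : the sum of a `P`-fixed vector over `G ⧸ P`;
* `norm_eq` : `∑_{i < p} c ^ i = (c - 1) ^ (p - 1)` in characteristic `p`.
-/

set_option autoImplicit false

namespace Cfsg.Agent.H782.Weyl

open Module

section sum

variable {α : Type*} {Y : Type*} [AddCommMonoid Y] {p : ℕ} [hp : Fact p.Prime]

theorem iterate_mod {σ : α → α} {a : α} (h : σ^[p] a = a) (n : ℕ) : σ^[n % p] a = σ^[n] a := by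
  have hk : ∀ k, σ^[p * k] a = a := by
    intro k
    induction k with
    | zero => rfl
    | succ k ih => rw [mul_add, mul_one, Function.iterate_add_apply, h, ih]
  conv_rhs => rw [← Nat.mod_add_div n p, Function.iterate_add_apply, hk]

theorem fixed_of_iterate {σ : α → α} {a : α} (h : σ^[p] a = a) {d : ℕ} (hd0 : 0 < d) (hd : d < p)
    (hda : σ^[d] a = a) : σ a = a := by
  have hk : ∀ k, σ^[d * k] a = a := by
    intro k
    induction k with
    | zero => rfl
    | succ k ih => rw [mul_add, mul_one, Function.iterate_add_apply, hda, ih]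
  have hcop : Nat.Coprime d p := Nat.Coprime.symm ((Nat.Prime.coprime_iff_not_dvd hp.out).2
    (fun h1 => by have := Nat.le_of_dvd hd0 h1; omega))
  obtain ⟨e, he⟩ : ∃ e, d * e % p = 1 % p := by
    obtain ⟨e, he⟩ := Nat.exists_mul_mod_eq_one_of_coprime hcop hp.out.one_lt
    exact ⟨e, by rw [he.2, Nat.mod_eq_of_lt hp.out.one_lt]⟩
  have h1 := iterate_mod h (d * e)
  rw [he, Nat.mod_eq_of_lt hp.out.one_lt, hk] at h1
  exact h1

theorem sum_eq_zero_of_free [DecidableEq α] (σ : α → α) (f : α → Y) (c : Y → Y) (hc : ∀ a, f (σ a) = c (f a))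
    (hN : ∀ y, ∑ i ∈ Finset.range p, c^[i] y = 0) (s : Finset α) (hs : ∀ a ∈ s, σ a ∈ s)
    (hper : ∀ a ∈ s, σ^[p] a = a) (hfree : ∀ a ∈ s, σ a ≠ a) : ∑ a ∈ s, f a = 0 := by
  induction hn : s.card using Nat.strong_induction_on generalizing s with
  | _ n ih =>
    rcases s.eq_empty_or_nonempty with rfl | ⟨a, ha⟩
    · exact Finset.sum_empty
    · have hmem : ∀ i, σ^[i] a ∈ s := by
        intro i
        induction i with
        | zero => exact ha
        | succ i ih' => rw [Function.iterate_succ_apply']; exact hs _ ih'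
      have hinj : Set.InjOn (fun i => σ^[i] a) (Finset.range p : Set ℕ) := by
        have key : ∀ i j, i < p → j < p → i < j → σ^[i] a ≠ σ^[j] a := by
          intro i j hi hj hij h
          have hb := hmem i
          apply hfree _ hb
          refine fixed_of_iterate (hper _ hb) (d := j - i) (by omega) (by omega) ?_
          rw [← Function.iterate_add_apply, Nat.sub_add_cancel hij.le, h]
        intro i hi j hj hij
        rw [Finset.coe_range, Set.mem_Iio] at hi hj
        rcases lt_trichotomy i j with h | h | h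
        · exact absurd hij (key i j hi hj h)
        · exact h
        · exact absurd hij.symm (key j i hj hi h)
      set O := (Finset.range p).image (fun i => σ^[i] a) with hO
      have hOs : O ⊆ s := by
        intro b hb
        rw [hO, Finset.mem_image] at hb
        obtain ⟨i, -, rfl⟩ := hb
        exact hmem i
      have hsumO : ∑ b ∈ O, f b = 0 := by
        rw [hO, Finset.sum_image hinj]
        have h1 : ∀ i, f (σ^[i] a) = c^[i] (f a) := by
          intro i
          induction i with
          | zero => rfl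
          | succ i ih' => rw [Function.iterate_succ_apply', hc, ih', ← Function.iterate_succ_apply' c]
        rw [Finset.sum_congr rfl (fun i _ => h1 i)]
        exact hN _
      have hOcl : ∀ b, b ∈ s → (σ b ∈ O → b ∈ O) := by
        intro b hb h1
        rw [hO, Finset.mem_image] at h1 ⊢
        obtain ⟨i, hi, h2⟩ := h1
        -- `b = σ^[p - 1] (σ b)`
        have h3 : b = σ^[p - 1 + i] a := by
          rw [Function.iterate_add_apply, h2, ← Function.iterate_succ_apply, Nat.succ_eq_add_one,
            Nat.sub_add_cancel hp.out.one_lt.le]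
          exact (hper b hb).symm
        refine ⟨(p - 1 + i) % p, Finset.mem_range.2 (Nat.mod_lt _ hp.out.pos), ?_⟩
        rw [iterate_mod (hper a ha), ← h3]
      have hcard : (s \ O).card < n := by
        rw [← hn]
        exact Finset.card_lt_card (Finset.sdiff_ssubset hOs ⟨a, by
          rw [hO, Finset.mem_image]; exact ⟨0, Finset.mem_range.2 hp.out.pos, rfl⟩⟩)
      have h4 := ih _ hcard (s \ O) ?_ ?_ ?_ rfl
      · rw [← Finset.sum_sdiff hOs, h4, hsumO, add_zero]
      · intro b hb
        rw [Finset.mem_sdiff] at hb ⊢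
        exact ⟨hs b hb.1, fun h => hb.2 (hOcl b hb.1 h)⟩
      · intro b hb
        exact hper b (Finset.mem_sdiff.1 hb).1
      · intro b hb
        exact hfree b (Finset.mem_sdiff.1 hb).1

theorem sum_eq_sum_fixed [Fintype α] [DecidableEq α] (σ : α → α) (f : α → Y) (c : Y → Y)
    (hc : ∀ a, f (σ a) = c (f a)) (hN : ∀ y, ∑ i ∈ Finset.range p, c^[i] y = 0) (hper : ∀ a, σ^[p] a = a) :
    ∑ a, f a = ∑ a ∈ Finset.univ.filter (fun a => σ a = a), f a := by
  rw [← Finset.sum_filter_add_sum_filter_not Finset.univ (fun a => σ a = a) f]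
  rw [sum_eq_zero_of_free (p := p) σ f c hc hN (Finset.univ.filter (fun a => ¬ σ a = a)) ?_
    (fun a _ => hper a) ?_, add_zero]
  · intro a ha
    rw [Finset.mem_filter] at ha ⊢
    refine ⟨Finset.mem_univ _, fun h => ha.2 ?_⟩
    -- `σ (σ a) = σ a` gives `a = σ^[p] a = σ a`
    have h1 : ∀ n, σ^[n] (σ a) = σ a := by
      intro n
      induction n with
      | zero => rfl
      | succ n ih => rw [Function.iterate_succ_apply, h, ih]
    have h2 := hper a
    obtain ⟨q, hq⟩ : ∃ q, p = q + 1 := ⟨p - 1, by have := hp.out.pos; omega⟩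
    rw [hq, Function.iterate_succ_apply, h1] at h2
    exact h2
  · intro a ha
    exact (Finset.mem_filter.1 ha).2

end sum

section norm

theorem norm_eq {p : ℕ} [hp : Fact p.Prime] {A : Type*} [Ring A] [Algebra (ZMod p) A] (c : A) :
    ∑ i ∈ Finset.range p, c ^ i = (c - 1) ^ (p - 1) := by
  have h1 : ∑ i ∈ Finset.range p, (Polynomial.X : Polynomial (ZMod p)) ^ i = (Polynomial.X - 1) ^ (p - 1) := by
    have h2 : (Polynomial.X - 1 : Polynomial (ZMod p)) ≠ 0 := by
      rw [← Polynomial.C_1]
      exact Polynomial.X_sub_C_ne_zero 1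
    apply mul_right_cancel₀ h2
    rw [geom_sum_mul, ← pow_succ, Nat.sub_add_cancel hp.out.one_lt.le, sub_pow_char, one_pow]
  have h3 := congrArg (Polynomial.aeval c) h1
  simpa using h3

end norm

section relSum

variable {k : Type*} [Field k] {G : Type*} [Group G] [Finite G] {Y : Type*} [AddCommGroup Y] [Module k Y]
  (A : Representation k G Y) (P : Subgroup G) (y : Y)

theorem out_apply (hy : ∀ u ∈ P, A u y = y) (g : G) : A (Quotient.out (g : G ⧸ P)) y = A g y := by
  have h1 : g⁻¹ * Quotient.out (g : G ⧸ P) ∈ P := by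
    rw [← QuotientGroup.eq]
    exact (Quotient.out_eq (g : G ⧸ P)).symm
  have h2 := hy _ h1
  rw [map_mul, Module.End.mul_apply] at h2
  have h3 := congrArg (A g) h2
  rwa [← Module.End.mul_apply, ← map_mul, mul_inv_cancel, map_one, Module.End.one_apply] at h3

open Classical in
/-- the sum of a `P`-fixed vector over the cosets of `P` -/
noncomputable def relSum : Y :=
  letI := Fintype.ofFinite (G ⧸ P)
  ∑ q : G ⧸ P, A (Quotient.out q) y

theorem relSum_eq [Fintype (G ⧸ P)] : relSum A P y = ∑ q : G ⧸ P, A (Quotient.out q) y := by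
  unfold relSum
  refine Finset.sum_congr ?_ (fun _ _ => rfl)
  congr!

theorem apply_relSum (hy : ∀ u ∈ P, A u y = y) (g : G) : A g (relSum A P y) = relSum A P y := by
  classical
  letI := Fintype.ofFinite (G ⧸ P)
  rw [relSum_eq, map_sum]
  refine Fintype.sum_equiv (MulAction.toPerm g) _ _ fun q => ?_
  rw [MulAction.toPerm_apply]
  have h1 : (g • q : G ⧸ P) = ((g * Quotient.out q : G) : G ⧸ P) := by
    conv_lhs => rw [← Quotient.out_eq q]
    rfl
  rw [h1, out_apply A P y hy, map_mul, Module.End.mul_apply]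

end relSum

end Cfsg.Agent.H782.Weyl
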