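import Cfsg.Agent.H782.Weyl.Model
import Cfsg.Agent.H782.Weyl.Sum

/-!
# The line spanned by `log x` in the endomorphism ring (helper782)

`ρ : G → GL(B)` over `ZMod p`, `x` of order `p`, `X = log (ρ x)`, `N = N_G(⟨x⟩)`.
* `ad_log` : `Ad g X = a X` if `g x g⁻¹ = x ^ a`;
* `mem_norm_of_ad` : the stabilizer of the line `⟨X⟩` is `N`.
-/

set_option autoImplicit false

namespace Cfsg.Agent.H782.Weyl

open Module

variable {p : ℕ} [hp : Fact p.Prime] {G : Type*} [Group G] {B : Type*} [AddCommGroup B]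
  [Module (ZMod p) B] (ρ : Representation (ZMod p) G B)

/-- conjugation on endomorphisms -/
noncomputable abbrev Ad : Representation (ZMod p) G (End (ZMod p) B) := ρ.linHom ρ

theorem ad_apply (g : G) (Y : End (ZMod p) B) : Ad ρ g Y = ρ g * Y * ρ g⁻¹ := rfl

theorem ad_mul (g : G) (Y Z : End (ZMod p) B) : Ad ρ g (Y * Z) = Ad ρ g Y * Ad ρ g Z := by
  simp only [ad_apply]
  have h : ρ g⁻¹ * ρ g = 1 := by rw [← map_mul, inv_mul_cancel, map_one]
  calc ρ g * (Y * Z) * ρ g⁻¹ = ρ g * Y * (1 * Z) * ρ g⁻¹ := by rw [one_mul]; simp only [mul_assoc]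
    _ = ρ g * Y * ρ g⁻¹ * (ρ g * Z * ρ g⁻¹) := by rw [← h]; simp only [mul_assoc]

theorem trace_ad (g : G) (Y : End (ZMod p) B) :
    LinearMap.trace (ZMod p) B (Ad ρ g Y) = LinearMap.trace (ZMod p) B Y := by
  rw [ad_apply, LinearMap.trace_mul_comm, ← mul_assoc, ← map_mul, inv_mul_cancel, map_one, one_mul]

theorem ad_pow_apply (g : G) (m : ℕ) (h : G) : Ad ρ g (ρ h ^ m) = ρ (g * h ^ m * g⁻¹) := by
  rw [ad_apply, ← map_pow, ← map_mul, ← map_mul]

variable {x : G}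

theorem pow_val_congr (hx : x ^ p = 1) {m n : ℕ} (h : (m : ZMod p) = n) : x ^ m = x ^ n := by
  have h1 : m ≡ n [MOD p] := (ZMod.natCast_eq_natCast_iff _ _ _).1 h
  have h2 : ∀ k, x ^ k = x ^ (k % p) := fun k => by
    conv_lhs => rw [← Nat.mod_add_div k p, pow_add, pow_mul, hx, one_pow, mul_one]
  rw [h2 m, h2 n]
  congr 1

/-- `Ad g (log x) = a log x` if `g x g⁻¹ = x ^ a` -/
theorem ad_log (hx : x ^ p = 1) (g : G) (a : (ZMod p)ˣ) (ha : g * x * g⁻¹ = x ^ (a : ZMod p).val) :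
    Ad ρ g (logOp (ρ x)) = (a : ZMod p) • logOp (ρ x) := by
  classical
  unfold logOp
  rw [map_neg, map_sum, smul_neg, Finset.smul_sum]
  congr 1
  refine Fintype.sum_equiv (Equiv.mulLeft a) _ _ fun b => ?_
  rw [map_smul, ad_pow_apply, smul_smul, Equiv.coe_mulLeft, mul_inv_rev]
  have h1 : g * x ^ (b : ZMod p).val * g⁻¹ = x ^ ((a * b : (ZMod p)ˣ) : ZMod p).val := by
    rw [← conj_pow, ha, ← pow_mul]
    apply pow_val_congr hx
    push_cast
    rw [ZMod.natCast_zmod_val, ZMod.natCast_zmod_val, ZMod.natCast_zmod_val]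
  rw [h1, map_pow]
  congr 1
  rw [← Units.val_mul]
  congr 1
  rw [mul_comm b⁻¹ a⁻¹, mul_inv_cancel_left]

theorem exists_unit (hx : orderOf x = p) {g : G} (hg : g ∈ Subgroup.normalizer (Subgroup.zpowers x : Set G)) :
    ∃ a : (ZMod p)ˣ, g * x * g⁻¹ = x ^ (a : ZMod p).val := by
  have h1 : g * x * g⁻¹ ∈ Subgroup.zpowers x :=
    (Subgroup.mem_normalizer_iff.1 hg x).1 (Subgroup.mem_zpowers x)
  have hfin : IsOfFinOrder x := by
    rw [← orderOf_pos_iff, hx]
    exact hp.out.pos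
  obtain ⟨n, hn⟩ := (Submonoid.mem_powers_iff _ _).1 (hfin.mem_powers_iff_mem_zpowers.2 h1)
  have hn0 : (n : ZMod p) ≠ 0 := by
    intro h
    rw [ZMod.natCast_eq_zero_iff] at h
    obtain ⟨c, rfl⟩ := h
    change x ^ (p * c) = g * x * g⁻¹ at hn
    rw [pow_mul, ← hx, pow_orderOf_eq_one, one_pow, eq_comm, mul_inv_eq_one, mul_eq_left] at hn
    rw [hn, orderOf_one] at hx
    exact hp.out.one_lt.ne hx
  refine ⟨Units.mk0 (n : ZMod p) hn0, ?_⟩
  rw [← hn]
  have hxp : x ^ p = 1 := by rw [← hx, pow_orderOf_eq_one]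
  apply pow_val_congr hxp
  rw [Units.val_mk0, ZMod.natCast_zmod_val]

theorem ad_log_of_mem (hx : orderOf x = p) {g : G}
    (hg : g ∈ Subgroup.normalizer (Subgroup.zpowers x : Set G)) :
    ∃ a : (ZMod p)ˣ, Ad ρ g (logOp (ρ x)) = (a : ZMod p) • logOp (ρ x) := by
  obtain ⟨a, ha⟩ := exists_unit hx hg
  exact ⟨a, ad_log ρ (by rw [← hx, pow_orderOf_eq_one]) g a ha⟩

theorem commute_of_ad {Y : End (ZMod p) B} {g : G} (h : Ad ρ g Y = Y) : Y * ρ g = ρ g * Y := by
  rw [ad_apply] at h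
  have h1 : ρ g⁻¹ * ρ g = 1 := by rw [← map_mul, inv_mul_cancel, map_one]
  calc Y * ρ g = ρ g * Y * ρ g⁻¹ * ρ g := by rw [h]
    _ = ρ g * Y := by rw [mul_assoc, h1, mul_one]

/-- the stabilizer of the line spanned by `log x` -/
theorem mem_norm_of_ad [Finite G] (hfaith : Function.Injective ρ)
    (hcom : ∀ Y : End (ZMod p) B, Y * logOp (ρ x) = logOp (ρ x) * Y → Y * ρ x = ρ x * Y)
    (hcent : ∀ g, Commute g x → g ∈ Subgroup.zpowers x) (hxX : Ad ρ x (logOp (ρ x)) = logOp (ρ x)) {g : G}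
    {t : ZMod p} (ht : t ≠ 0) (h : Ad ρ g (logOp (ρ x)) = t • logOp (ρ x)) :
    g ∈ Subgroup.normalizer (Subgroup.zpowers x : Set G) := by
  have hcent' : ∀ g, Ad ρ g (logOp (ρ x)) = logOp (ρ x) → g ∈ Subgroup.zpowers x := by
    intro g hg
    apply hcent
    apply hfaith
    rw [map_mul, map_mul]
    exact hcom _ (commute_of_ad ρ hg).symm
  have hinv : Ad ρ g⁻¹ (logOp (ρ x)) = t⁻¹ • logOp (ρ x) := by
    have h1 := congrArg (Ad ρ g⁻¹) h
    rw [← Module.End.mul_apply, ← map_mul, inv_mul_cancel, map_one, Module.End.one_apply, map_smul] at h1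
    conv_rhs => rw [h1]
    rw [smul_smul, inv_mul_cancel₀ ht, one_smul]
  have h2 : g * x * g⁻¹ ∈ Subgroup.zpowers x := by
    apply hcent'
    rw [map_mul, map_mul, Module.End.mul_apply, Module.End.mul_apply, hinv, map_smul, hxX, map_smul, h, smul_smul,
      inv_mul_cancel₀ ht, one_smul]
  have h3 : (Subgroup.zpowers x).map (MulAut.conj g).toMonoidHom ≤ Subgroup.zpowers x := by
    rw [MonoidHom.map_zpowers, Subgroup.zpowers_le]
    exact h2
  have h4 : (Subgroup.zpowers x).map (MulAut.conj g).toMonoidHom = Subgroup.zpowers x := by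
    apply Subgroup.eq_of_le_of_card_ge h3
    rw [← Nat.card_congr ((Subgroup.zpowers x).equivMapOfInjective _ (MulAut.conj g).injective).toEquiv]
  exact Subgroup.mem_normalizer_iff_map_conj_eq.2 h4

end Cfsg.Agent.H782.Weyl
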