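import Cfsg.Agent.H782.Weyl.Fit

/-!
# The Weyl element (helper782)

`Reg.exists_weyl`: if `⟨x⟩` is not normal, there is `n₀` with `G = N ∪ ⟨x⟩ n₀ N` (`N` the normalizer of `⟨x⟩`)
inverting `N ∩ n₀ N n₀⁻¹`.
-/

set_option autoImplicit false

namespace Cfsg.Agent.H782.Weyl

open Module

/-- the conclusion -/
structure Wey {G : Type*} [Group G] (x n₀ : G) : Prop where
  notMem : n₀ ∉ Subgroup.normalizer (Subgroup.zpowers x : Set G)
  big : ∀ g, g ∉ Subgroup.normalizer (Subgroup.zpowers x : Set G) →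
    ∃ i : ℕ, n₀⁻¹ * (x ^ i * g) ∈ Subgroup.normalizer (Subgroup.zpowers x : Set G)
  inv : ∀ d ∈ Subgroup.normalizer (Subgroup.zpowers x : Set G),
    n₀⁻¹ * d * n₀ ∈ Subgroup.normalizer (Subgroup.zpowers x : Set G) → n₀ * d * n₀⁻¹ = d⁻¹
  sq : n₀ * n₀ = 1

variable {p : ℕ} [hp : Fact p.Prime] {G : Type*} [Group G] {B : Type*} [AddCommGroup B]
  [Module (ZMod p) B] {ρ : Representation (ZMod p) G B} {x : G} {s : ℕ} [FiniteDimensional (ZMod p) B] [Finite G]

theorem Reg.exists_weyl (h : Reg ρ x s) (hnn : ¬ (Subgroup.zpowers x).Normal) : ∃ n₀, Wey x n₀ := by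
  classical
  have hs2 := h.two_le
  have hs := h.le
  have hp5 : 5 ≤ p := by omega
  have h2ne : (2 : ZMod p) ≠ 0 := by
    intro h1
    have h2 : ((2 : ℕ) : ZMod p) = 0 := by exact_mod_cast h1
    rw [ZMod.natCast_eq_zero_iff] at h2
    have := Nat.le_of_dvd (by norm_num) h2
    omega
  obtain ⟨U, A, A₁, hU, hXU, hAU, hcX, hcA, hcA₁, hspan, hα, hXX, hcom, hX0⟩ := h.exists_sub
  set X := logOp (ρ x) with hX
  set α := bf X A with hαdef
  set β := bf A A with hβdef
  set N := Subgroup.normalizer (Subgroup.zpowers x : Set G) with hN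
  have hmul : ∀ g g' Y, Ad ρ (g * g') Y = Ad ρ g (Ad ρ g' Y) := by
    intro g g' Y
    rw [map_mul, Module.End.mul_apply]
  have hone : ∀ Y, Ad ρ 1 Y = Y := by
    intro Y
    rw [map_one, Module.End.one_apply]
  have hb : ∀ g Y Z, bf (Ad ρ g Y) (Ad ρ g Z) = bf Y Z := fun g Y Z => bf_ad ρ g Y Z
  have hXA₁ : bf X A₁ = 0 := by
    have h1 := hb x X A
    rw [hcX, hcA, bf_add_right] at h1
    linear_combination h1
  have h12 : bf A₁ A₁ = -2 * α := by
    have h1 := hb x A₁ A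
    rw [hcA₁, hcA, bf_add_right, bf_add_left, bf_add_left, bf_smul_left, bf_smul_left, hXA₁] at h1
    linear_combination h1
  have h11 : bf A A₁ = α := by
    have h1 := hb x A A
    rw [hcA, bf_add_right, bf_add_left, bf_add_left, bf_comm A₁ A, h12] at h1
    have h2 : 2 * (bf A A₁ - α) = 0 := by linear_combination h1
    exact sub_eq_zero.1 ((mul_eq_zero.1 h2).resolve_left h2ne)
  set γ := β * (2 * α)⁻¹ with hγ
  have h2α : 2 * α ≠ 0 := mul_ne_zero h2ne hα
  have hγα : γ * (2 * α) = β := by rw [hγ, mul_assoc, inv_mul_cancel₀ h2α, mul_one]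
  set X' := A - γ • X with hX'
  have hXX' : bf X X' = α := by
    rw [hX', bf_sub_right, bf_smul_right, hXX]
    ring
  -- powers of `x`
  have hpX : ∀ i : ℕ, Ad ρ (x ^ i) X = X := by
    intro i
    induction i with
    | zero => rw [pow_zero, hone]
    | succ i ih => rw [pow_succ, hmul, hcX, ih]
  have hpA₁ : ∀ i : ℕ, Ad ρ (x ^ i) A₁ = A₁ + (2 * (i : ZMod p)) • X := by
    intro i
    induction i with
    | zero => rw [pow_zero, hone]; simp
    | succ i ih =>
      rw [pow_succ, hmul, hcA₁, map_add, map_smul, ih, hpX, add_assoc, ← add_smul]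
      congr 2
      push_cast
      ring
  have hpA : ∀ i : ℕ, Ad ρ (x ^ i) A = A + (i : ZMod p) • A₁ + ((i : ZMod p) * (i - 1)) • X := by
    intro i
    induction i with
    | zero => rw [pow_zero, hone]; simp
    | succ i ih =>
      rw [pow_succ, hmul, hcA, map_add, ih, hpA₁]
      have h1 : A + (i : ZMod p) • A₁ + ((i : ZMod p) * (i - 1)) • X + (A₁ + (2 * (i : ZMod p)) • X) =
          A + ((i : ZMod p) + 1) • A₁ + ((i : ZMod p) * (i - 1) + 2 * i) • X := by
        rw [add_smul, add_smul, one_smul]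
        abel
      rw [h1]
      push_cast
      congr 2
      ring
  -- the isotropic lines
  have hisot : ∀ r t : ZMod p, t ≠ 0 → bf (r • X + t • A) (r • X + t • A) = 0 → r • X + t • A = t • X' := by
    intro r t ht h1
    rw [bf_add_right, bf_add_left, bf_add_left, bf_smul_left, bf_smul_right, bf_smul_left, bf_smul_right,
      bf_smul_left, bf_smul_right, bf_smul_left, bf_smul_right, hXX, bf_comm A X] at h1
    have h3 : t * (2 * α) * (r + t * γ) = 0 := by
      linear_combination h1 + t * t * hγα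
    have h4 : r = - (t * γ) := eq_neg_of_add_eq_zero_left ((mul_eq_zero.1 h3).resolve_left (mul_ne_zero ht h2α))
    rw [h4, hX', smul_sub, smul_smul, neg_smul]
    abel
  have hX'ne : ∀ g, g ∈ N → ∀ t : ZMod p, t ≠ 0 → Ad ρ g X ≠ t • X' := by
    intro g hg t ht h1
    obtain ⟨a, ha⟩ := ad_log_of_mem ρ h.ord hg
    rw [← hX] at ha
    have h2 := hb g X X
    rw [h1] at ha
    have h3 : bf X (t • X') = 0 := by rw [ha, bf_smul_right, hXX, mul_zero]
    rw [bf_smul_right, hXX'] at h3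
    exact mul_ne_zero ht hα h3
  have hmemN : ∀ g (t : ZMod p), t ≠ 0 → Ad ρ g X = t • X → g ∈ N := fun g t ht h1 =>
    mem_norm_of_ad ρ h.faith hcom h.cent hcX ht h1
  have hkey : ∀ g, g ∉ N → ∃ i : ℕ, ∃ t : ZMod p, t ≠ 0 ∧ Ad ρ (x ^ i * g) X = t • X' := by
    intro g hg
    obtain ⟨r, q, t, hY⟩ := hspan _ (hU g X hXU)
    have h1 := hb g X X
    rw [hXX, hY] at h1
    by_cases ht : t = 0
    · exfalso
      rw [ht, zero_smul, add_zero] at hY h1
      rw [bf_add_right, bf_add_left, bf_add_left, bf_smul_left, bf_smul_right, bf_smul_left, bf_smul_right,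
        bf_smul_left, bf_smul_right, bf_smul_left, bf_smul_right, hXX, bf_comm A₁ X, hXA₁, h12] at h1
      have h3 : q * q * (2 * α) = 0 := by linear_combination -h1
      have h4 : q = 0 := by
        rcases mul_eq_zero.1 h3 with h4 | h4
        · exact mul_self_eq_zero.1 h4
        · exact absurd h4 h2α
      rw [h4, zero_smul, add_zero] at hY
      refine hg (hmemN g r ?_ hY)
      rintro rfl
      rw [zero_smul] at hY
      apply hX0
      have h5 : Ad ρ g⁻¹ (Ad ρ g X) = X := by rw [← hmul, inv_mul_cancel, hone]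
      rw [← h5, hY, map_zero]
    · refine ⟨(-(q * t⁻¹)).val, t, ht, ?_⟩
      have h3 : ((((-(q * t⁻¹)).val : ℕ)) : ZMod p) = -(q * t⁻¹) := by
        rw [ZMod.natCast_val, ZMod.cast_id', id]
      have h4 : Ad ρ (x ^ (-(q * t⁻¹)).val * g) X =
          (r - 2 * q * (q * t⁻¹) + t * ((q * t⁻¹) * (q * t⁻¹ + 1))) • X + t • A := by
        rw [hmul, hY, map_add, map_add, map_smul, map_smul, map_smul, hpX, hpA₁, hpA, h3]
        have h5 : t * -(q * t⁻¹) = -q := by
          field_simp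
        rw [smul_add, smul_add, smul_add, smul_smul, smul_smul, smul_smul, h5]
        module
      rw [h4]
      apply hisot _ _ ht
      rw [← h4]
      have h6 := hb (x ^ (-(q * t⁻¹)).val * g) X X
      rw [hXX] at h6
      exact h6
  -- a first element
  obtain ⟨g₀, hg₀⟩ : ∃ g, g ∉ N := by
    by_contra hcon
    push Not at hcon
    apply hnn
    rw [← Subgroup.normalizer_eq_top_iff, eq_top_iff]
    intro g _
    exact hcon g
  obtain ⟨i₁, t₁, ht₁, hn₁⟩ := hkey g₀ hg₀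
  set n₁ := x ^ i₁ * g₀ with hn₁def
  have hn₁N : n₁ ∉ N := fun h1 => hX'ne n₁ h1 t₁ ht₁ hn₁
  obtain ⟨i₂, t₂, ht₂, hn₂⟩ := hkey n₁⁻¹ (fun h1 => hn₁N (by rw [← inv_inv n₁]; exact inv_mem h1))
  set n₀ := n₁ * (x ^ i₂)⁻¹ with hn₀
  have hpXi : ∀ i : ℕ, Ad ρ (x ^ i)⁻¹ X = X := by
    intro i
    have h1 : Ad ρ (x ^ i)⁻¹ (Ad ρ (x ^ i) X) = X := by rw [← hmul, inv_mul_cancel, hone]
    rwa [hpX] at h1
  have hn₀X : Ad ρ n₀ X = t₁ • X' := by rw [hn₀, hmul, hpXi, hn₁]
  have hn₀X' : Ad ρ n₀ X' = t₂⁻¹ • X := by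
    have h1 : X' = t₂⁻¹ • (Ad ρ (x ^ i₂ * n₁⁻¹) X) := by
      rw [hn₂, smul_smul, inv_mul_cancel₀ ht₂, one_smul]
    rw [h1, map_smul, ← hmul, hn₀, show n₁ * (x ^ i₂)⁻¹ * (x ^ i₂ * n₁⁻¹) = 1 by group, hone]
  have htt : t₁ * t₂⁻¹ = 1 := by
    have h1 := hb n₀ X X'
    rw [hn₀X, hn₀X', bf_smul_left, bf_smul_right, bf_comm X' X, hXX'] at h1
    have h2 : (t₁ * t₂⁻¹ - 1) * α = 0 := by linear_combination h1
    exact sub_eq_zero.1 ((mul_eq_zero.1 h2).resolve_right hα)
  have hn₀N : n₀ ∉ N := fun h1 => hX'ne n₀ h1 t₁ ht₁ hn₀X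
  have htriv : ∀ g, Ad ρ g X = X → Ad ρ g X' = X' → g = 1 := by
    intro g h1 h3
    have h4 : Commute g x := by
      have h5 := commute_of_ad ρ (Y := X) (g := g) h1
      have h6 := hcom (ρ g) h5.symm
      apply h.faith
      rw [map_mul, map_mul]
      exact h6
    obtain ⟨j, hj, rfl⟩ := (IsOfFinOrder.mem_zpowers_iff_mem_range_orderOf (isOfFinOrder_of_finite x)).1
      (h.cent g h4) |> Finset.mem_image.1
    rw [h.ord, Finset.mem_range] at hj
    rw [hX', map_sub, map_smul, hpA, hpX] at h3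
    have h7 : (j : ZMod p) • A₁ + ((j : ZMod p) * (j - 1)) • X = 0 := by
      have h8 : (j : ZMod p) • A₁ + ((j : ZMod p) * (j - 1)) • X =
        (A + (j : ZMod p) • A₁ + ((j : ZMod p) * (j - 1)) • X - γ • X) - (A - γ • X) := by abel
      rw [h8, h3, sub_self]
    have h9 : bf ((j : ZMod p) • A₁ + ((j : ZMod p) * (j - 1)) • X) A₁ = 0 := by rw [h7, bf_zero_left]
    rw [bf_add_left, bf_smul_left, bf_smul_left, h12, hXA₁] at h9
    have h10 : (j : ZMod p) * (2 * α) = 0 := by linear_combination -h9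
    have h11' := (mul_eq_zero.1 h10).resolve_right h2α
    rw [ZMod.natCast_eq_zero_iff] at h11'
    have h12' : j = 0 := Nat.eq_zero_of_dvd_of_lt h11' hj
    rw [h12', pow_zero]
  have hsq : n₀ * n₀ = 1 := by
    apply htriv
    · rw [hmul, hn₀X, map_smul, hn₀X', smul_smul, htt, one_smul]
    · rw [hmul, hn₀X', map_smul, hn₀X, smul_smul, mul_comm, htt, one_smul]
  refine ⟨n₀, hn₀N, ?_, ?_, hsq⟩
  · intro g hg
    obtain ⟨i, t, ht, h1⟩ := hkey g hg
    refine ⟨i, hmemN _ (t * t₁⁻¹) (mul_ne_zero ht (inv_ne_zero ht₁)) ?_⟩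
    have h3 : Ad ρ n₀⁻¹ (Ad ρ n₀ X) = X := by rw [← hmul, inv_mul_cancel, hone]
    rw [hn₀X, map_smul] at h3
    rw [hmul, h1, map_smul, mul_smul, ← h3]
    rw [smul_smul t₁⁻¹, inv_mul_cancel₀ ht₁, one_smul]
  · intro d hd hd'
    have hn₀i : n₀⁻¹ = n₀ := inv_eq_of_mul_eq_one_left hsq
    obtain ⟨a, ha⟩ := ad_log_of_mem ρ h.ord hd
    obtain ⟨a', ha'⟩ := ad_log_of_mem ρ h.ord hd'
    rw [← hX] at ha ha'
    have hdX' : Ad ρ d X' = (a' : ZMod p) • X' := by
      have h1 : Ad ρ n₀ (Ad ρ (n₀⁻¹ * d * n₀) X) = Ad ρ d (Ad ρ n₀ X) := by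
        rw [← hmul, ← hmul]
        congr 2
        group
      rw [ha', map_smul, hn₀X, map_smul, smul_comm] at h1
      have h3 := congrArg (fun z => t₁⁻¹ • z) h1
      simp only [smul_smul, inv_mul_cancel₀ ht₁, one_smul] at h3
      rw [← mul_assoc, inv_mul_cancel₀ ht₁, one_mul] at h3
      exact h3.symm
    have haa : (a : ZMod p) * (a' : ZMod p) = 1 := by
      have h1 := hb d X X'
      rw [ha, hdX', bf_smul_left, bf_smul_right, hXX'] at h1
      have h2 : ((a : ZMod p) * a' - 1) * α = 0 := by linear_combination h1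
      exact sub_eq_zero.1 ((mul_eq_zero.1 h2).resolve_right hα)
    have hg1 : n₀ * d * n₀⁻¹ * d = 1 := by
      apply htriv
      · simp only [hmul, hn₀i, ha, map_smul, hn₀X, hdX', hn₀X', smul_smul]
        rw [show (a : ZMod p) * t₁ * (a' : ZMod p) * t₂⁻¹ = ((a : ZMod p) * a') * (t₁ * t₂⁻¹) by ring, haa, htt,
          one_mul, one_smul]
      · simp only [hmul, hn₀i, hdX', map_smul, hn₀X', ha, hn₀X, smul_smul]
        rw [show (a' : ZMod p) * t₂⁻¹ * (a : ZMod p) * t₁ = ((a : ZMod p) * a') * (t₁ * t₂⁻¹) by ring, haa, htt,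
          one_mul, one_smul]
    exact eq_inv_of_mul_eq_one_left hg1

end Cfsg.Agent.H782.Weyl
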